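import Mathlib
import Cfsg.Agent.H364.Slack
import Cfsg.Agent.H934.OutAll
import Cfsg.Agent.H364.OutLie

/-!
# The `p`-part of `|Out S|` for the simple groups not of Lie type in characteristic `p` (helper370)
-/

set_option autoImplicit false

namespace Cfsg.Agent.H370.AAM

open Cfsg Cfsg.Agent.OrdDiv Finset
open Cfsg.Agent.H365.PPart Cfsg.Agent.H365.CubeA Cfsg.Agent.H365.CubeF Cfsg.Agent.H365.CubeR Cfsg.Agent.H365.Cube
  Cfsg.Agent.H365.CubeS Cfsg.Agent.H364.Slack Cfsg.Agent.H934.OutB

universe u v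

theorem not_isMulComm {S : Type u} [Group S] (hna : ¬ ∀ a b : S, a * b = b * a) : ¬ IsMulCommutative S :=
  fun h => hna fun a b => h.is_comm.comm a b

/-- `2 ^ |Out S|_p ≤ (|S|_{p'}) ^ 3` -/
theorem two_pow_out {S : Type u} [Group S] [Finite S] [IsSimpleGroup S] (hk : IsKnownSimple' S)
    (hna : ¬ ∀ a b : S, a * b = b * a) {p δ B : ℕ} (hp : p.Prime) (hd : p ^ δ ∣ Nat.card (Cfsg.Out S))
    (hB : Nat.card S ≤ p ^ (Nat.card S).factorization p * B) : 2 ^ (p ^ δ) ≤ B ^ 3 := by
  have := Fact.mk hp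
  have hna' := not_isMulComm hna
  obtain ⟨P⟩ : Nonempty (Sylow p S) := inferInstance
  have hP : Nat.card P = p ^ (Nat.card S).factorization p := P.card_eq_multiplicity
  have hne : (P : Subgroup S) ≠ ⊤ := by
    intro h
    have hS : IsPGroup p S := by
      have h1 := P.isPGroup'
      intro x
      obtain ⟨k, hk⟩ := h1 ⟨x, by rw [h]; exact Subgroup.mem_top x⟩
      exact ⟨k, congrArg Subtype.val hk⟩
    have hnt : Nontrivial (Subgroup.center S) := hS.center_nontrivial
    rcases IsSimpleGroup.eq_bot_or_eq_top_of_normal (Subgroup.center S) inferInstance with h1 | h1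
    · rw [h1] at hnt
      exact not_nontrivial _ hnt
    · apply hna
      intro a b
      have h2 : b ∈ Subgroup.center S := by rw [h1]; exact Subgroup.mem_top b
      exact (Subgroup.mem_center_iff.1 h2 a)
  have h1 := Cfsg.Agent.H934.OutAll.bd hna' hk (P : Subgroup S) hne
  have h2 := (P : Subgroup S).card_mul_index
  have h3 : (P : Subgroup S).index ≤ B := by
    have h4 : Nat.card (P : Subgroup S) = p ^ (Nat.card S).factorization p := hP
    have h5 : 0 < p ^ (Nat.card S).factorization p := pow_pos hp.pos _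
    refine Nat.le_of_mul_le_mul_left ?_ h5
    calc p ^ (Nat.card S).factorization p * (P : Subgroup S).index = Nat.card S := by rw [← h4]; exact h2
      _ ≤ _ := hB
  have h4 : p ^ δ ≤ Nat.card (Cfsg.Out S) := by
    refine Nat.le_of_dvd ?_ hd
    have h5 := card_out_mul S hna'
    have h6 : Finite (MulAut S) := Finite.of_injective (fun f : MulAut S => (f : S → S)) DFunLike.coe_injective
    rcases Nat.eq_zero_or_pos (Nat.card (Cfsg.Out S)) with h7 | h7
    · rw [h7, zero_mul] at h5
      exact absurd h5.symm Nat.card_pos.ne'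
    · exact h7
  calc 2 ^ (p ^ δ) ≤ 2 ^ Nat.card (Cfsg.Out S) := Nat.pow_le_pow_right (by norm_num) h4
    _ ≤ _ := h1
    _ ≤ B ^ 3 := Nat.pow_le_pow_left h3 3

/-! ### the orders of the outer automorphism groups -/

section out

variable {S : Type u} [Group S] [Finite S] [IsSimpleGroup S] (hna : ¬ ∀ a b : S, a * b = b * a)
include hna

theorem out_psl {F : Type} [Field F] [Fintype F] {n q p f : ℕ} (hp : p.Prime) (hf : 1 ≤ f) (hF : Fintype.card F = p ^ f)
    (hn : 2 ≤ n) (h2 : n = 2 → 4 ≤ p ^ f) (e : S ≃* Matrix.ProjectiveSpecialLinearGroup (Fin n) F) (hq : q = p ^ f) :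
    Nat.card (Cfsg.Out S) = (if n = 2 then 1 else 2) * Nat.gcd n (q - 1) * f := by
  have := Fact.mk hp
  have h1 := Cfsg.Agent.S0813.result p f hf hF n hn h2
  rw [Cfsg.Agent.H364.OutLie.card_pgl hn, hF] at h1
  refine card_out_of_aut (not_isMulComm hna) ?_
  rw [Cfsg.Agent.H364.OutLie.mulaut_congr e, h1, Nat.card_congr e.toEquiv, hq]; ring

theorem out_psu {F : Type} [Field F] [Fintype F] {n q p f : ℕ} (hp : p.Prime) (hf : 1 ≤ f) (hq : q = p ^ f)
    (hF : Fintype.card F = q ^ 2) (hn : 3 ≤ n) (h32 : ¬ (n = 3 ∧ q = 2)) (e : S ≃* PSU n F q) :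
    Nat.card (Cfsg.Out S) = Nat.gcd n (q + 1) * (2 * f) := by
  have := Fact.mk hp
  have h1 := Cfsg.Agent.S0815.result p f hf hq hF n hn h32
  refine card_out_of_aut (not_isMulComm hna) ?_
  rw [Cfsg.Agent.H364.OutLie.mulaut_congr e, h1, Nat.card_congr e.toEquiv]

theorem out_alt {n : ℕ} (hn : 5 ≤ n) (e : S ≃* ↥(alternatingGroup (Fin n))) :
    (n ≠ 6 → Nat.card (Cfsg.Out S) = 2) ∧ Nat.card (Cfsg.Out S) ∣ 4 := by
  have hs := Cfsg.Agent.H934.OutAll.simple_of e
  have hna' := Cfsg.Agent.H934.OutAll.not_comm_of (not_isMulComm hna) e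
  have h1 : n ≠ 6 → Nat.card (Cfsg.Out S) = 2 := fun h6 => by
    rw [card_out_congr e]
    exact Cfsg.Agent.H934.OutAll.card_out_alt hn h6 hna'
  refine ⟨h1, ?_⟩
  by_cases h6 : n = 6
  · subst h6
    have : Fact (Nat.Prime 3) := ⟨by norm_num⟩
    have : Fintype (GaloisField 3 2) := Fintype.ofFinite _
    have hF : Fintype.card (GaloisField 3 2) = 9 := by
      rw [← Nat.card_eq_fintype_card, GaloisField.card 3 2 (by norm_num)]
      norm_num
    obtain ⟨e'⟩ := Cfsg.Agent.S0254.result hF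
    rw [out_psl hna (F := GaloisField 3 2) (n := 2) (q := 9) (p := 3) (f := 2) Nat.prime_three (by norm_num)
      (by rw [hF]; norm_num) le_rfl (fun _ => by norm_num) (e.trans e'.symm) (by norm_num)]
    norm_num
  · rw [h1 h6]; norm_num

omit hna [Finite S] [IsSimpleGroup S] in
theorem out_key {X : Type v} [Group X] (h : Nat.card (Cfsg.Out X) ≤ 2) (e : Nonempty (S ≃* X)) :
    Nat.card (Cfsg.Out S) ≤ 2 := by
  obtain ⟨e⟩ := e
  rwa [card_out_congr e]

omit hna [Finite S] [IsSimpleGroup S] in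
theorem out_sporadic (h : Cfsg.IsSporadicGroup S) : Nat.card (Cfsg.Out S) ≤ 2 := by
  rcases h with h | h | h | h | h | h | h | h | h | h | h | h | h | h | h | h | h | h | h | h | h | h | h | h | h | h
  · exact out_key (by rw [Cfsg.Agent.S2060.result]; try norm_num) h
  · exact out_key (by rw [Cfsg.Agent.S2061.result]; try norm_num) h
  · exact out_key (by rw [Cfsg.Agent.S2062.result]; try norm_num) h
  · exact out_key (by rw [Cfsg.Agent.S2063.result]; try norm_num) h
  · exact out_key (by rw [Cfsg.Agent.S2064.result]; try norm_num) h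
  · exact out_key (by rw [Cfsg.Agent.S2065.result]; try norm_num) h
  · exact out_key (by rw [Cfsg.Agent.S2066.result]; try norm_num) h
  · obtain ⟨F, _, _, ω, hF, hω, e⟩ := h
    exact out_key (by rw [Cfsg.Agent.S2067.result hF ω hω]) e
  · exact out_key (by rw [Cfsg.Agent.S2068.result]; try norm_num) h
  · exact out_key (by rw [Cfsg.Agent.S2069.result]; try norm_num) h
  · exact out_key (by rw [Cfsg.Agent.S2070.result]; try norm_num) h
  · exact out_key (by rw [Cfsg.Agent.S2071.result]; try norm_num) h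
  · exact out_key (by rw [Cfsg.Agent.S2073.result]; try norm_num) h
  · exact out_key (by rw [Cfsg.Agent.S2072.result]; try norm_num) h
  · exact out_key (by rw [Cfsg.Agent.S2074.result]; try norm_num) h
  · exact out_key (by rw [Cfsg.Agent.S2075.result]; try norm_num) h
  · exact out_key (by rw [Cfsg.Agent.S2077.result]; try norm_num) h
  · exact out_key (by rw [Cfsg.Agent.S2078.result]; try norm_num) h
  · exact out_key (by rw [Cfsg.Agent.S2076.result]; try norm_num) h
  · exact out_key (by rw [Cfsg.Agent.S2079.result]; try norm_num) h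
  · exact out_key (by rw [Cfsg.Agent.S2080.result]; try norm_num) h
  · exact out_key (by rw [Cfsg.Agent.S2081.result]; try norm_num) h
  · exact out_key (by rw [Cfsg.Agent.S2082.result]; try norm_num) h
  · exact out_key (by rw [Cfsg.Agent.S2083.result]; try norm_num) h
  · exact out_key (by rw [Cfsg.Agent.S2084.result]; try norm_num) h
  · exact out_key (by rw [Cfsg.Agent.S2085.result]; try norm_num) h

theorem out_tits (h : Cfsg.Lie.IsoTits S) : Nat.card (Cfsg.Out S) ≤ 2 := by
  obtain ⟨e⟩ := h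
  obtain ⟨e'⟩ := Cfsg.Agent.TitsK.exists_equiv
  have hfin : Finite Cfsg.Agent.FourTwo.Base.LL := by infer_instance
  have h1 : Nat.card (Cfsg.Out ↥Cfsg.Agent.TitsK.TT) ∣ 2 := Cfsg.Agent.TitsK.tdata.index_inn
  exact out_key ((Nat.le_of_dvd (by norm_num) h1).trans (by norm_num)) ⟨e.trans e'⟩

end out

/-! ### numbers -/

/-- `2 ^ g + 1` a power of the odd prime `p ∣ g`: only `9` -/
theorem fermat_case {p g k : ℕ} (hp : p.Prime) (hp2 : p ≠ 2) (hg : 1 ≤ g) (hpg : p ∣ g) (h : 2 ^ g + 1 = p ^ k) :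
    p = 3 ∧ g = 3 := by
  have := Fact.mk hp
  have hodd : Odd p := hp.odd_of_ne_two hp2
  obtain ⟨m, rfl⟩ := hpg
  have hm : 1 ≤ m := Nat.pos_of_ne_zero (by rintro rfl; omega)
  have hx : (2 ^ (p * m) : ℕ) = (2 ^ m) ^ p := by rw [← pow_mul, mul_comm]
  rw [hx] at h
  set x := 2 ^ m with hxd
  have hx2 : 2 ≤ x := by
    rw [hxd]; calc 2 = 2 ^ 1 := rfl
      _ ≤ 2 ^ m := Nat.pow_le_pow_right (by norm_num) hm
  have hdv : x + 1 ∣ x ^ p + 1 := by
    have := hodd.nat_add_dvd_pow_add_pow x 1
    rwa [one_pow] at this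
  rw [h] at hdv
  obtain ⟨i, hi, hxi⟩ := (Nat.dvd_prime_pow hp).1 hdv
  have hi1 : 1 ≤ i := by
    by_contra hcon
    have : i = 0 := by omega
    rw [this, pow_zero] at hxi
    omega
  have hpx : p ∣ x + 1 := by rw [hxi]; exact dvd_pow_self p (by omega)
  have hnx : ¬ p ∣ x := fun h1 => by
    have h2 := (Nat.dvd_add_right h1).1 hpx
    exact hp.one_lt.ne' (Nat.dvd_one.1 h2)
  have hl := padicValNat.pow_add_pow (p := p) hodd hpx hnx hodd
  rw [one_pow, h, hxi, padicValNat.prime_pow, padicValNat.prime_pow, padicValNat_self] at hl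
  have hx3 : x ^ p + 1 = p * (x + 1) := by rw [h, hl, hxi, pow_succ]; ring
  have hp3 : 3 ≤ p := by have := hp.two_le; omega
  -- size
  by_cases h5 : p = 3
  · subst h5
    have h6 : x = 2 := by
      by_contra hne
      have h7 : 3 ≤ x := by omega
      nlinarith [Nat.mul_le_mul h7 h7, Nat.mul_le_mul (Nat.mul_le_mul h7 h7) h7]
    have h7 : m = 1 := by
      rw [hxd] at h6
      have : (2 : ℕ) ^ m = 2 ^ 1 := by rw [h6]; rfl
      exact Nat.pow_right_injective (le_refl 2) this
    subst h7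
    exact ⟨rfl, rfl⟩
  · exfalso
    have hp5 : 5 ≤ p := by
      have h4 : p ≠ 4 := by rintro rfl; norm_num at hp
      omega
    have key : ∀ t, 5 ≤ t → t * 3 < 2 ^ t := by
      intro t ht
      induction t, ht using Nat.le_induction with
      | base => norm_num
      | succ t ht ih => rw [pow_succ]; omega
    have h6 : 2 ^ (p - 1) ≤ x ^ (p - 1) := Nat.pow_le_pow_left hx2 _
    have h7 : p * 3 < 2 * 2 ^ (p - 1) := by
      rw [← pow_succ', Nat.sub_add_cancel (by omega)]; exact key p hp5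
    have h8 : x ^ p = x ^ (p - 1) * x := by rw [← pow_succ, Nat.sub_add_cancel (by omega)]
    rw [h8] at hx3
    nlinarith

theorem alt_pow_dvd {p δ n : ℕ} (hp : p.Prime) (h : p ^ δ ∣ n) (hn : n ∣ 4) : (p = 2 → δ ≤ 2) ∧ (p ≠ 2 → δ = 0) := by
  have h1 : p ^ δ ∣ 2 ^ 2 := h.trans hn
  constructor
  · rintro rfl
    exact (Nat.pow_dvd_pow_iff_le_right (by norm_num)).1 h1
  · intro hp2
    by_contra h0
    have h2 : p ∣ 2 ^ 2 := (dvd_pow_self p h0).trans h1
    exact hp2 ((Nat.prime_dvd_prime_iff_eq hp Nat.prime_two).1 (hp.dvd_of_dvd_pow h2))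

theorem le_two_pow_dvd {p δ n : ℕ} (hp : p.Prime) (h : p ^ δ ∣ n) (hn : n ≤ 2) (hn0 : n ≠ 0) :
    (p = 2 → δ ≤ 1) ∧ (p ≠ 2 → δ = 0) := by
  have h1 := Nat.le_of_dvd (by omega) h
  constructor
  · rintro rfl
    by_contra h0
    have h2 : 2 ^ 2 ≤ 2 ^ δ := Nat.pow_le_pow_right (by norm_num) (by omega)
    omega
  · intro hp2
    by_contra h0
    have h2 : p ^ 1 ≤ p ^ δ := Nat.pow_le_pow_right hp.pos (by omega)
    have := hp.two_le
    rw [pow_one] at h2
    omega

/-- the constant -/
def ce (p : ℕ) : ℕ := if p = 2 then 14 else 3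

/-- combination of the slack with the bound for `δ` -/
theorem combine {p N P δ : ℕ} (hp : p.Prime) (h : P ^ 3 < p ^ cc p * N) (h1 : (p = 2 → δ ≤ 1) ∧ (p ≠ 2 → δ = 0)) :
    P ^ 3 * p ^ (2 * δ) < p ^ ce p * N := by
  have h2 : cc p + 2 * δ ≤ ce p := by
    unfold cc ce
    by_cases hp2 : p = 2
    · have := h1.1 hp2
      rw [if_pos hp2, if_pos hp2]; omega
    · have := h1.2 hp2
      rw [if_neg hp2, if_neg hp2]
      split_ifs <;> omega
  calc P ^ 3 * p ^ (2 * δ) < p ^ cc p * N * p ^ (2 * δ) := Nat.mul_lt_mul_of_pos_right h (pow_pos hp.pos _)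
    _ = p ^ (cc p + 2 * δ) * N := by rw [pow_add]; ring
    _ ≤ _ := Nat.mul_le_mul_right _ (Nat.pow_le_pow_right hp.pos h2)

theorem exc_out (T : OrderTable.{u}) {G : Type u} [Group G] [Finite G] [IsSimpleGroup G]
    (hna : ¬ ∀ a b : G, a * b = b * a) {p : ℕ} (hp : p.Prime)
    (hlie : ¬ IsLieTypeChar p G) (h : Exc p G) {δ : ℕ} (hd : p ^ δ ∣ Nat.card (Cfsg.Out G)) :
    pt p (Nat.card G) ^ 3 * p ^ (2 * δ) < p ^ (ce p) * Nat.card G := by
  have hG0 : Nat.card G ≠ 0 := Nat.card_pos.ne'
  have hs := exc_slack T hp hlie h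
  have hO0 : Nat.card (Cfsg.Out G) ≠ 0 := by
    have h5 := card_out_mul G (not_isMulComm hna)
    have h6 : Finite (MulAut G) := Finite.of_injective (fun f : MulAut G => (f : G → G)) DFunLike.coe_injective
    intro h7
    rw [h7, zero_mul] at h5
    exact absurd h5.symm Nat.card_pos.ne'
  have small : Nat.card (Cfsg.Out G) ≤ 2 → pt p (Nat.card G) ^ 3 * p ^ (2 * δ) < p ^ (ce p) * Nat.card G := fun h2 =>
    combine hp hs (le_two_pow_dvd hp hd h2 hO0)
  rcases h with ⟨n, hn, ⟨e⟩⟩ | ⟨F, _, _, hq, hpt, ⟨e⟩⟩ | ⟨rfl, F, _, _, hF, ⟨e⟩⟩ | ⟨rfl, F, _, _, hF, ⟨e⟩⟩ |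
    ⟨rfl, F, _, _, hF, h⟩ | ⟨rfl, F, _, _, hF, ⟨e⟩⟩ | ⟨rfl, x, hx, hb, hr⟩
  · have h5 : 5 ≤ n := by
      simp only [altEx, Bool.or_eq_true, Bool.and_eq_true, beq_iff_eq] at hn
      omega
    obtain ⟨ho1, ho2⟩ := out_alt hna h5 e
    by_cases h6 : n = 6
    · obtain ⟨h7, h8⟩ := alt_pow_dvd hp hd ho2
      subst h6
      have h1 := alt_card h5 e
      have h4 : Nat.card G = 360 := by
        have : (6 : ℕ).factorial = 720 := by norm_num [Nat.factorial]
        omega
      by_cases hp2 : p = 2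
      · subst hp2
        have h9 : pt 2 (Nat.card G) ≤ 2 ^ 3 := pt_le_pow hp hG0 (by rw [h4]; norm_num)
        have h10 := h7 rfl
        calc pt 2 (Nat.card G) ^ 3 * 2 ^ (2 * δ) ≤ (2 ^ 3) ^ 3 * 2 ^ (2 * 2) :=
              Nat.mul_le_mul (Nat.pow_le_pow_left h9 3) (Nat.pow_le_pow_right (by norm_num) (by omega))
          _ < _ := by rw [h4]; norm_num [ce]
      · exact combine hp hs ⟨fun h => absurd h hp2, h8⟩
    · exact small (by rw [ho1 h6])
  · -- `L₂(Q)`
    obtain ⟨v, g, hv, hg, hF⟩ := Cfsg.Agent.H934.OutCl.exists_pf F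
    have hout := out_psl hna hv hg hF le_rfl (fun _ => by rw [← hF]; exact hq) e rfl
    rw [if_pos rfl, one_mul] at hout
    have h1 := psl_eq (F := F) (n := 2) (by norm_num)
    rw [← Nat.card_congr e.toEquiv, hF] at h1
    rw [hF] at hq hpt
    rw [hout] at hd
    by_cases hp2 : p = 2
    · subst hp2
      have hvodd : Odd v := by
        by_contra hcon
        have h2 : v = 2 := by
          rcases hv.eq_two_or_odd' with h3 | h3
          · exact h3
          · exact absurd h3 hcon
        subst h2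
        apply hlie
        exact Or.inl ⟨F, inferInstance, inferInstance, charP_of_dvd Nat.prime_two (by rw [hF]; exact dvd_pow_self 2 (by omega)), 2,
          le_rfl, fun _ => by rw [hF]; exact hq, ⟨e⟩⟩
      have hgcd : Nat.gcd 2 (v ^ g - 1) ∣ 2 := Nat.gcd_dvd_left _ _
      rcases Nat.even_or_odd g with hge | hgo
      · -- `Q = w ^ 2`
        obtain ⟨t, rfl⟩ := hge
        have hw : v ^ (t + t) = v ^ t * v ^ t := pow_add _ _ _
        have hwo : Odd (v ^ t) := hvodd.pow
        set w := v ^ t with hwd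
        have hw3 : 3 ≤ w := by
          have h3 : v ^ 1 ≤ v ^ t := Nat.pow_le_pow_right hv.pos (by omega)
          have h4 := hv.two_le
          obtain ⟨k, hk⟩ := hwo
          rw [pow_one] at h3
          omega
        obtain ⟨k, hk⟩ := hwo
        rw [hw] at hpt hout h1 hd hq
        rcases hpt with h2 | ⟨-, h2⟩
        · exfalso
          rw [pt] at h2
          have h3 : w * w + 1 = 2 * (2 * (k * k + k) + 1) := by rw [hk]; ring
          have h4 : ¬ 2 ^ 2 ∣ w * w + 1 := by rw [h3]; omega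
          have h5 : (w * w + 1).factorization 2 ≤ 1 := by
            by_contra hcon
            exact h4 ((Nat.prime_two.pow_dvd_iff_le_factorization (by omega)).2 (by omega))
          have h6 : 2 ^ (w * w + 1).factorization 2 ≤ 2 ^ 1 := Nat.pow_le_pow_right (by norm_num) h5
          nlinarith
        · have h3 : w * w - 1 = (w - 1) * (w + 1) := by
            obtain ⟨x, hx⟩ : ∃ x, w = x + 1 := ⟨w - 1, by omega⟩
            have : (x + 1) * (x + 1) = x * (x + 1 + 1) + 1 := by ring
            rw [hx, this]; simp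
          rw [pt] at h2
          have h4 : w - 1 ∣ 2 ^ (w * w - 1).factorization 2 := by rw [h2, h3]; exact dvd_mul_right _ _
          have h5 : w + 1 ∣ 2 ^ (w * w - 1).factorization 2 := by rw [h2, h3]; exact dvd_mul_left _ _
          obtain ⟨a, -, ha⟩ := (Nat.dvd_prime_pow Nat.prime_two).1 h4
          obtain ⟨b, -, hb⟩ := (Nat.dvd_prime_pow Nat.prime_two).1 h5
          have h6 : w = 3 := by
            have hb2 : 2 ≤ b := by
              by_contra hcon
              have : 2 ^ b ≤ 2 ^ 1 := Nat.pow_le_pow_right (by norm_num) (by omega)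
              omega
            have h7 : (4 : ℕ) ∣ w + 1 := by rw [hb]; exact pow_dvd_pow 2 hb2
            have ha1 : a ≤ 1 := by
              by_contra hcon
              have h8 : (4 : ℕ) ∣ w - 1 := by rw [ha]; exact pow_dvd_pow 2 (show 2 ≤ a by omega)
              omega
            have h8 : 2 ^ a ≤ 2 ^ 1 := Nat.pow_le_pow_right (by norm_num) ha1
            omega
          have ht : t = 1 := by
            have h7 : v ∣ 3 := by rw [← h6, hwd]; exact dvd_pow_self v (by omega)
            have h8 := (Nat.prime_dvd_prime_iff_eq hv Nat.prime_three).1 h7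
            subst h8
            exact Nat.pow_right_injective (le_refl 2 |>.trans (by norm_num)) (by rw [← hwd, h6]; norm_num : 3 ^ t = 3 ^ 1)
          rw [h6] at h1 hd
          rw [ht] at hd
          have h7 : Nat.card G = 360 := by
            have h8 : sA (3 * 3) (2 - 1) = 720 := by decide +kernel
            rw [h8] at h1
            norm_num at h1
            omega
          have h8 : δ ≤ 2 := by
            have h9 : 2 ^ δ ∣ 2 ^ 2 := by simpa using hd
            exact (Nat.pow_dvd_pow_iff_le_right (by norm_num)).1 h9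
          have h9 : pt 2 (Nat.card G) ≤ 2 ^ 3 := pt_le_pow hp hG0 (by rw [h7]; norm_num)
          calc pt 2 (Nat.card G) ^ 3 * 2 ^ (2 * δ) ≤ (2 ^ 3) ^ 3 * 2 ^ (2 * 2) :=
                Nat.mul_le_mul (Nat.pow_le_pow_left h9 3) (Nat.pow_le_pow_right (by norm_num) (by omega))
            _ < _ := by rw [h7]; norm_num [ce]
      · refine combine hp hs ⟨fun _ => ?_, fun h => absurd rfl h⟩
        by_contra hcon
        have h2 : 2 ^ 2 ∣ 2 * g := ((pow_dvd_pow 2 (by omega : 2 ≤ δ)).trans hd).trans (Nat.mul_dvd_mul_right hgcd g)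
        obtain ⟨k, hk⟩ := hgo
        omega
    · rcases hpt with h2 | ⟨h2, -⟩
      swap
      · exact absurd h2 hp2
      rw [pt] at h2
      have hv2 : v = 2 := by
        by_contra hcon
        have hvodd : Odd v := hv.odd_of_ne_two hcon
        have h3 : Odd (v ^ g) := hvodd.pow
        have h4 : Odd (p ^ (v ^ g + 1).factorization p) := (hp.odd_of_ne_two hp2).pow
        rw [h2] at h4
        exact (Nat.not_even_iff_odd.2 h4) (h3.add_odd odd_one)
      subst hv2
      have hgcd : Nat.gcd 2 (2 ^ g - 1) = 1 := by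
        have h3 : Odd (2 ^ g - 1) := by
          have h4 : (2 : ℕ) ∣ 2 ^ g := dvd_pow_self 2 (by omega)
          have h5 : 1 ≤ 2 ^ g := Nat.one_le_two_pow
          rw [Nat.odd_iff]; omega
        exact (Nat.coprime_two_left).2 h3
      rw [hgcd, one_mul] at hd
      by_cases hδ : δ = 0
      · exact combine hp hs ⟨fun h => absurd h hp2, fun _ => hδ⟩
      · have hpg : p ∣ g := (dvd_pow_self p hδ).trans hd
        obtain ⟨rfl, rfl⟩ := fermat_case hp hp2 hg hpg h2.symm
        have hδ1 : δ ≤ 1 := by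
          by_contra hcon
          have h3 : 3 ^ 2 ∣ 3 := (pow_dvd_pow 3 (by omega : 2 ≤ δ)).trans hd
          omega
        have h7 : Nat.card G = 504 := by
          have h8 : sA (2 ^ 3) (2 - 1) = 504 := by decide +kernel
          rw [h8] at h1
          norm_num at h1
          omega
        have h9 : pt 3 (Nat.card G) ≤ 3 ^ 2 := pt_le_pow hp hG0 (by rw [h7]; norm_num)
        calc pt 3 (Nat.card G) ^ 3 * 3 ^ (2 * δ) ≤ (3 ^ 2) ^ 3 * 3 ^ (2 * 1) :=
              Nat.mul_le_mul (Nat.pow_le_pow_left h9 3) (Nat.pow_le_pow_right (by norm_num) (by omega))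
          _ < _ := by rw [h7]; norm_num [ce]
  · obtain ⟨v, g, hv, hg, hF'⟩ := Cfsg.Agent.H934.OutCl.exists_pf F
    have hv2 : v = 2 ∧ g = 1 := by
      have h1 : v ^ g = 2 := by rw [← hF', hF]
      have h2 : v ∣ 2 := by rw [← h1]; exact dvd_pow_self v (by omega)
      have h3 := (Nat.prime_dvd_prime_iff_eq hv Nat.prime_two).1 h2
      subst h3
      exact ⟨rfl, Nat.pow_right_injective (le_refl 2) (by simpa using h1)⟩
    obtain ⟨rfl, rfl⟩ := hv2
    have hout := out_psl hna hv le_rfl hF' (by norm_num : 2 ≤ 3) (fun h => absurd h (by norm_num)) e rfl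
    exact small (by rw [hout]; norm_num)
  · have hout := out_psu hna Nat.prime_three le_rfl (q := 3) (by norm_num) (by rw [hF]; norm_num) (by norm_num) (by norm_num) e
    exact small (by rw [hout]; norm_num)
  · rcases h with ⟨⟨e⟩⟩ | ⟨⟨e⟩⟩
    · have hout := out_psu hna Nat.prime_two le_rfl (q := 2) (by norm_num) (by rw [hF]; norm_num) (by norm_num) (by norm_num) e
      exact small (by rw [hout]; norm_num)
    · have hout := out_psu hna Nat.prime_two le_rfl (q := 2) (by norm_num) (by rw [hF]; norm_num) (by norm_num) (by norm_num) e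
      exact small (by rw [hout]; norm_num)
  · have := Fact.mk Nat.prime_three
    have h1 := Cfsg.Agent.S0814.result 3 1 le_rfl (by rw [hF]; norm_num) 2 le_rfl (fun _ => by norm_num) (F := F)
    have hout : Nat.card (Cfsg.Out G) = 2 := by
      refine card_out_of_aut (not_isMulComm hna) ?_
      rw [Cfsg.Agent.H364.OutLie.mulaut_congr e, h1, Nat.card_congr e.toEquiv]
      norm_num
    exact small (by rw [hout])
  · simp only [big2, List.contains_iff_mem, List.mem_cons, List.not_mem_nil, or_false] at hb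
    rcases hb with h | h | h | h | h | h | h | h | h | h | h | h
    · rw [h] at hr
      exact small (out_tits hna hr)
    · rw [h] at hr
      exact small (out_sporadic (Or.inr (Or.inl hr)))
    · rw [h] at hr
      exact small (out_sporadic (Or.inr (Or.inr (Or.inl hr))))
    · rw [h] at hr
      exact small (out_sporadic (Or.inr (Or.inr (Or.inr (Or.inr (Or.inl hr))))))
    · rw [h] at hr
      exact small (out_sporadic (Or.inr (Or.inr (Or.inr (Or.inr (Or.inr (Or.inr (Or.inl hr))))))))
    · rw [h] at hr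
      exact small (out_sporadic (Or.inr (Or.inr (Or.inr (Or.inr (Or.inr (Or.inr (Or.inr (Or.inr (Or.inr (Or.inr (Or.inr (Or.inr (Or.inr (Or.inl hr)))))))))))))))
    · rw [h] at hr
      exact small (out_sporadic (Or.inr (Or.inr (Or.inr (Or.inr (Or.inr (Or.inr (Or.inr (Or.inr (Or.inr (Or.inr (Or.inr (Or.inr (Or.inr (Or.inr (Or.inl hr))))))))))))))))
    · rw [h] at hr
      exact small (out_sporadic (Or.inr (Or.inr (Or.inr (Or.inr (Or.inr (Or.inr (Or.inr (Or.inr (Or.inr (Or.inr (Or.inr (Or.inr (Or.inr (Or.inr (Or.inr (Or.inr (Or.inl hr))))))))))))))))))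
    · rw [h] at hr
      exact small (out_sporadic (Or.inr (Or.inr (Or.inr (Or.inr (Or.inr (Or.inr (Or.inr (Or.inr (Or.inr (Or.inr (Or.inr (Or.inr (Or.inr (Or.inr (Or.inr (Or.inr (Or.inr (Or.inr (Or.inr (Or.inl hr)))))))))))))))))))))
    · rw [h] at hr
      exact small (out_sporadic (Or.inr (Or.inr (Or.inr (Or.inr (Or.inr (Or.inr (Or.inr (Or.inr (Or.inr (Or.inr (Or.inl hr))))))))))))
    · rw [h] at hr
      exact small (out_sporadic (Or.inr (Or.inr (Or.inr (Or.inr (Or.inr (Or.inr (Or.inr (Or.inr (Or.inr (Or.inl hr)))))))))))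
    · rw [h] at hr
      exact small (out_sporadic (Or.inr (Or.inr (Or.inr (Or.inr (Or.inr (Or.inr (Or.inr (Or.inr (Or.inr (Or.inr (Or.inr (Or.inr (Or.inr (Or.inr (Or.inr (Or.inr (Or.inr (Or.inr (Or.inr (Or.inr (Or.inr (Or.inr (Or.inr (Or.inr (Or.inl hr))))))))))))))))))))))))))

end Cfsg.Agent.H370.AAM
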