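import Mathlib
import Cfsg.Agent.H370.AAM.OutP
import Cfsg.Agent.H364.OrthRow
import Cfsg.Agent.OrdDiv.Table

/-!
# Elimination of the simple groups not of Lie type in characteristic `p` (helper370)
-/

set_option autoImplicit false

namespace Cfsg.Agent.H370.AAM

open Cfsg Cfsg.Agent.OrdDiv Finset
open Cfsg.Agent.H365.PPart Cfsg.Agent.H365.Cube Cfsg.Agent.H902

universe u

/-- `S` a known simple group, not of Lie type in characteristic `p`, `|S|_p * p ^ δ = p ^ P`, `|S| * p ^ δ ≤ p ^ A`,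
`p ^ δ ∣ |Out S|` -/
theorem elim {S : Type u} [Group S] [Finite S] [IsSimpleGroup S] (hk : IsKnownSimple' S)
    (hna : ¬ ∀ a b : S, a * b = b * a) {p P A δ : ℕ} (hp : p.Prime) (hlie : ¬ IsLieTypeChar p S)
    (hd : p ^ δ ∣ Nat.card (Cfsg.Out S)) (hle : Nat.card S * p ^ δ ≤ p ^ A)
    (hv : (Nat.card S).factorization p + δ = P) (hPA : P ≤ A) :
    (3 * P ≤ A + 2 * δ ∧ 2 ^ (p ^ δ) ≤ p ^ (3 * (A - P))) ∨ 3 * P < A + ce p := by
  have hp1 := hp.one_lt
  rcases known_cube table hk hna hp with h | h | h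
  · left
    constructor
    · rw [pt, ← pow_mul] at h
      have h1 : p ^ ((Nat.card S).factorization p * 3 + δ) ≤ p ^ A := by
        rw [pow_add]
        exact (Nat.mul_le_mul_right _ h).trans hle
      have h2 := (Nat.pow_le_pow_iff_right hp1).1 h1
      omega
    · have h1 := two_pow_out hk hna hp hd (B := p ^ (A - P)) (by
        rw [← pow_add]
        have h2 : (Nat.card S).factorization p + (A - P) + δ = A := by omega
        refine Nat.le_of_mul_le_mul_right (?_ : _ * p ^ δ ≤ _) (pow_pos hp.pos δ)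
        rwa [← pow_add, h2])
      rwa [← pow_mul, mul_comm (A - P)] at h1
  · exact absurd h hlie
  · right
    have h1 := exc_out table hna hp hlie h hd
    rw [pt, ← pow_mul] at h1
    have h2 : p ^ ((Nat.card S).factorization p * 3 + 2 * δ + δ) < p ^ (ce p + A) := by
      calc p ^ ((Nat.card S).factorization p * 3 + 2 * δ + δ)
          = p ^ ((Nat.card S).factorization p * 3) * p ^ (2 * δ) * p ^ δ := by rw [pow_add, pow_add]
        _ < p ^ ce p * Nat.card S * p ^ δ := Nat.mul_lt_mul_of_pos_right h1 (pow_pos hp.pos δ)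
        _ = p ^ ce p * (Nat.card S * p ^ δ) := by ring
        _ ≤ p ^ ce p * p ^ A := Nat.mul_le_mul_left _ hle
        _ = _ := by rw [pow_add]
    have h3 := (Nat.pow_lt_pow_iff_right hp1).1 h2
    omega

/-! ### numbers -/

theorem num2 {δ k : ℕ} (h : 2 ^ (2 ^ δ) ≤ 2 ^ (k * δ)) (hk : k ≤ 18) : δ ≤ 6 := by
  have h1 := (Nat.pow_le_pow_iff_right (by norm_num : 1 < 2)).1 h
  by_contra hcon
  have key : ∀ t, 7 ≤ t → 18 * t < 2 ^ t := by
    intro t ht
    induction t, ht using Nat.le_induction with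
    | base => norm_num
    | succ t ht ih => rw [pow_succ]; omega
  have h2 := key δ (by omega)
  have h3 : k * δ ≤ 18 * δ := Nat.mul_le_mul_right _ hk
  omega

theorem num3 {δ k : ℕ} (h : 2 ^ (3 ^ δ) ≤ 3 ^ (k * δ)) : 5 * 3 ^ δ ≤ 8 * (k * δ) := by
  have h1 : 2 ^ (3 ^ δ * 5) ≤ 2 ^ (8 * (k * δ)) := by
    calc 2 ^ (3 ^ δ * 5) = (2 ^ (3 ^ δ)) ^ 5 := by rw [pow_mul]
      _ ≤ (3 ^ (k * δ)) ^ 5 := Nat.pow_le_pow_left h 5
      _ = (3 ^ 5) ^ (k * δ) := by rw [← pow_mul, ← pow_mul, mul_comm]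
      _ ≤ (2 ^ 8) ^ (k * δ) := Nat.pow_le_pow_left (by norm_num) _
      _ = _ := by rw [← pow_mul]
  have := (Nat.pow_le_pow_iff_right (by norm_num : 1 < 2)).1 h1
  omega

theorem pow_fifteen {p : ℕ} (hp : 5 ≤ p) : p ^ 15 ≤ 2 ^ (7 * p) := by
  have key : ∀ t, 5 ≤ t → t ^ 15 ≤ 2 ^ (7 * t) := by
    intro t ht
    induction t, ht using Nat.le_induction with
    | base => norm_num
    | succ t ht ih =>
      have h1 : 5 * (t + 1) ≤ 6 * t := by omega
      have h2 : 5 ^ 15 * (t + 1) ^ 15 ≤ 6 ^ 15 * t ^ 15 := by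
        rw [← mul_pow, ← mul_pow]; exact Nat.pow_le_pow_left h1 15
      have h3 : 6 ^ 15 * t ^ 15 ≤ 6 ^ 15 * 2 ^ (7 * t) := Nat.mul_le_mul_left _ ih
      have h4 : (6 : ℕ) ^ 15 ≤ 5 ^ 15 * 2 ^ 7 := by norm_num
      have h5 : 5 ^ 15 * (t + 1) ^ 15 ≤ 5 ^ 15 * 2 ^ (7 * (t + 1)) := by
        calc 5 ^ 15 * (t + 1) ^ 15 ≤ 6 ^ 15 * 2 ^ (7 * t) := h2.trans h3
          _ ≤ 5 ^ 15 * 2 ^ 7 * 2 ^ (7 * t) := Nat.mul_le_mul_right _ h4
          _ = _ := by rw [mul_add, pow_add]; ring
      exact Nat.le_of_mul_le_mul_left h5 (by norm_num)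
  exact key p hp

theorem num5 {p δ k : ℕ} (hp : 5 ≤ p) (h : 2 ^ (p ^ δ) ≤ p ^ (k * δ)) : 15 * p ^ δ ≤ 7 * p * (k * δ) := by
  have h1 : 2 ^ (p ^ δ * 15) ≤ 2 ^ (7 * p * (k * δ)) := by
    calc 2 ^ (p ^ δ * 15) = (2 ^ (p ^ δ)) ^ 15 := by rw [pow_mul]
      _ ≤ (p ^ (k * δ)) ^ 15 := Nat.pow_le_pow_left h 15
      _ = (p ^ 15) ^ (k * δ) := by rw [← pow_mul, ← pow_mul, mul_comm]
      _ ≤ (2 ^ (7 * p)) ^ (k * δ) := Nat.pow_le_pow_left (pow_fifteen hp) _
      _ = _ := by rw [← pow_mul]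
  have := (Nat.pow_le_pow_iff_right (by norm_num : 1 < 2)).1 h1
  rw [mul_comm] at this
  exact this

/-- the exceptional parameters for `L n`, `U n` -/
def exLU (p f n : ℕ) : Prop :=
  (p = 2 ∧ n = 4 ∧ f ≤ 4) ∨ (p = 2 ∧ n = 5 ∧ f ≤ 2) ∨ (p = 2 ∧ n = 6 ∧ f = 1) ∨ (p = 3 ∧ n = 4 ∧ f ≤ 2) ∨
    (p = 3 ∧ n = 5 ∧ f = 1) ∨ (p = 5 ∧ n = 4 ∧ f ≤ 2) ∨ (p = 7 ∧ n = 4 ∧ f = 1)

theorem small_n {f n c : ℕ} (hf : 1 ≤ f) (hn : 4 ≤ n) (h : f * ((n - 1) * (n - 2)) ≤ c) (hc : c < 30) :
    (n = 4 ∧ f * 6 ≤ c) ∨ (n = 5 ∧ f * 12 ≤ c) ∨ (n = 6 ∧ f = 1 ∧ 20 ≤ c) := by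
  have h7 : n < 7 := by
    by_contra hcon
    have h1 : 6 * 5 ≤ (n - 1) * (n - 2) := Nat.mul_le_mul (by omega) (by omega)
    have h2 : 1 * (6 * 5) ≤ f * ((n - 1) * (n - 2)) := Nat.mul_le_mul hf h1
    omega
  interval_cases n
  · left; exact ⟨rfl, by omega⟩
  · right; left; exact ⟨rfl, by omega⟩
  · right; right; exact ⟨rfl, by omega, by omega⟩

/-- the exceptions for `L n`, `U n` -/
theorem excLU {p f n δ P A : ℕ} (hp : p.Prime) (hf : 1 ≤ f) (hn : 4 ≤ n) (hP : P = f * (n * (n - 1) / 2))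
    (hA : A = f * (n ^ 2 - 1))
    (h : (3 * P ≤ A + 2 * δ ∧ 2 ^ (p ^ δ) ≤ p ^ (3 * (A - P))) ∨ 3 * P < A + ce p) : exLU p f n := by
  obtain ⟨k, rfl⟩ : ∃ k, n = k + 1 := ⟨n - 1, by omega⟩
  -- `2 * P = f * (k * (k + 1))`, `2 * (A - P) = f * (k * (k + 3))`
  have hP2 : 2 * P = f * ((k + 1) * k) := by
    rw [hP, Nat.add_sub_cancel]
    have h1 : 2 * ((k + 1) * k / 2) = (k + 1) * k :=
      Nat.two_mul_div_two_of_even (by rw [mul_comm]; exact Nat.even_mul_succ_self k)
    calc 2 * (f * ((k + 1) * k / 2)) = f * (2 * ((k + 1) * k / 2)) := by ring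
      _ = _ := by rw [h1]
  have hA1 : A = f * (k * (k + 2)) := by
    rw [hA]; congr 1
    have : (k + 1) ^ 2 = k * (k + 2) + 1 := by ring
    omega
  obtain ⟨x, hx⟩ : ∃ x, x = f * ((k + 1 - 1) * (k + 1 - 2)) := ⟨_, rfl⟩
  have hx1 : 6 * P = 2 * A + x := by
    obtain ⟨j, rfl⟩ : ∃ j, k = j + 1 := ⟨k - 1, by omega⟩
    have e : j + 1 + 1 - 2 = j := by omega
    have e1 : j + 1 + 1 - 1 = j + 1 := by omega
    rw [e, e1] at hx
    have : 6 * P = 3 * (2 * P) := by ring
    rw [this, hP2, hA1, hx]; ring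
  have hPA : P ≤ A := by
    have h1 : 2 * P ≤ 2 * A := by
      rw [hP2, hA1]
      calc f * ((k + 1) * k) ≤ f * (2 * (k * (k + 2))) := Nat.mul_le_mul_left _ (by nlinarith)
        _ = _ := by ring
    omega
  have hE : 2 * (A - P) ≤ 3 * x := by
    -- `2 (A - P) = f k (k + 3) ≤ 3 f k (k - 1)`
    obtain ⟨j, rfl⟩ : ∃ j, k = j + 3 := ⟨k - 3, by omega⟩
    have e : j + 3 + 1 - 2 = j + 2 := by omega
    have e1 : j + 3 + 1 - 1 = j + 3 := by omega
    rw [e, e1] at hx
    have h2 : 2 * (A - P) = 2 * A - 2 * P := by omega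
    have h3 : 2 * A ≤ 2 * P + 3 * x := by
      rw [hP2, hA1, hx]
      have : (2 * ((j + 3) * (j + 3 + 2))) ≤ (j + 3 + 1) * (j + 3) + 3 * ((j + 3) * (j + 2)) := by nlinarith
      calc 2 * (f * ((j + 3) * (j + 3 + 2))) = f * (2 * ((j + 3) * (j + 3 + 2))) := by ring
        _ ≤ f * ((j + 3 + 1) * (j + 3) + 3 * ((j + 3) * (j + 2))) := Nat.mul_le_mul_left _ this
        _ = _ := by ring
    omega
  have hx6 : 6 ≤ x := by
    rw [hx]
    have h1 : 3 * 2 ≤ (k + 1 - 1) * (k + 1 - 2) := Nat.mul_le_mul (by omega) (by omega)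
    calc 6 = 1 * (3 * 2) := by norm_num
      _ ≤ _ := Nat.mul_le_mul hf h1
  rw [exLU]
  rcases h with ⟨h1, h2⟩ | h1
  · have hxd : x ≤ 4 * δ := by omega
    have hw : 2 ^ (p ^ δ) ≤ p ^ (18 * δ) := h2.trans (Nat.pow_le_pow_right hp.pos (by omega))
    rcases Nat.lt_or_ge p 5 with h5 | h5
    · have h23 : p = 2 ∨ p = 3 := by
        have := hp.two_le
        have h4 : p ≠ 4 := by rintro rfl; norm_num at hp
        omega
      rcases h23 with rfl | rfl
      · have h3 := num2 hw le_rfl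
        rcases small_n hf hn (c := 24) (by omega) (by norm_num) with h4 | h4 | h4 <;> omega
      · have h3 := num3 hw
        have h4 : δ ≤ 4 := by
          by_contra hcon
          have key : ∀ t, 5 ≤ t → 8 * (18 * t) < 5 * 3 ^ t := by
            intro t ht
            induction t, ht using Nat.le_induction with
            | base => norm_num
            | succ t ht ih => rw [pow_succ]; omega
          have := key δ (by omega)
          omega
        rcases small_n hf hn (c := 16) (by omega) (by norm_num) with h4 | h4 | h4 <;> omega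
    · have h3 := num5 h5 hw
      have hδ2 : 2 ≤ δ := by omega
      have h4 : δ ≤ 3 ∧ p < 17 := by
        obtain ⟨e, rfl⟩ : ∃ e, δ = e + 1 := ⟨δ - 1, by omega⟩
        have h6 : 5 * p ^ e ≤ 42 * (e + 1) := by
          rw [pow_succ] at h3
          have : 5 * p ^ e * (3 * p) ≤ 42 * (e + 1) * (3 * p) := by nlinarith
          exact Nat.le_of_mul_le_mul_right this (by omega)
        have key : ∀ t, 3 ≤ t → 42 * (t + 1) < 5 * 5 ^ t := by
          intro t ht
          induction t, ht using Nat.le_induction with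
          | base => norm_num
          | succ t ht ih => rw [pow_succ]; omega
        have he3 : e ≤ 2 := by
          by_contra hcon
          have h7 := key e (by omega)
          have h8 : 5 ^ e ≤ p ^ e := Nat.pow_le_pow_left h5 e
          omega
        refine ⟨by omega, ?_⟩
        have he1 : 1 ≤ e := by omega
        have h7 : p ^ 1 ≤ p ^ e := Nat.pow_le_pow_right hp.pos he1
        interval_cases e
        · rw [pow_one] at h6; omega
        · by_contra hcon
          have : 17 ^ 2 ≤ p ^ 2 := Nat.pow_le_pow_left (by omega) 2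
          omega
      have hs := small_n hf hn (c := 12) (by omega) (by norm_num)
      obtain ⟨h4, h17⟩ := h4
      -- exact checks
      have hAP : A - P = (f * (k * (k + 3))) / 2 := by
        have : 2 * (A - P) = f * (k * (k + 3)) := by
          have h7 : 2 * A = f * (k * (k + 3)) + 2 * P := by rw [hA1, hP2]; ring
          omega
        omega
      have hpp : p = 5 ∨ p = 7 ∨ p = 11 ∨ p = 13 := by
        interval_cases p <;> first | omega | (exfalso; revert hp; norm_num)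
      rcases hs with ⟨h6, h7⟩ | ⟨h6, h7⟩ | ⟨h6, h7, h8⟩
      · have hk3 : k = 3 := by omega
        subst hk3
        have hf2 : f ≤ 2 := by omega
        interval_cases f
        · rcases hpp with rfl | rfl | rfl | rfl
          · omega
          · omega
          · exfalso
            rw [hAP] at h2
            interval_cases δ
            · norm_num at h2
            · norm_num at h3
          · exfalso
            rw [hAP] at h2
            interval_cases δ
            · norm_num at h2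
            · norm_num at h3
        · have hδ3 : δ = 3 := by omega
          subst hδ3
          rw [hAP] at h2
          rcases hpp with rfl | rfl | rfl | rfl
          · omega
          all_goals
            exfalso
            norm_num at h3
      · have hk4 : k = 4 := by omega
        subst hk4
        have hf1 : f = 1 := by omega
        subst hf1
        have hδ3 : δ = 3 := by omega
        subst hδ3
        rw [hAP] at h2
        exfalso
        rcases hpp with rfl | rfl | rfl | rfl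
        · norm_num at h2
        all_goals norm_num at h3
      · omega
  · by_cases hp2 : p = 2
    · subst hp2
      have hc : ce 2 = 14 := rfl
      rcases small_n hf hn (c := 27) (by omega) (by norm_num) with h4 | h4 | h4 <;> omega
    · have hc : ce p = 3 := by rw [ce, if_neg hp2]
      omega

/-- the exceptions for `D n`, `DD n`: `3 P - A = f n (n - 2)`, `A - P = f n ^ 2` -/
theorem excD {p f n δ P A : ℕ} (hp : p.Prime) (hf : 1 ≤ f) (hn : 4 ≤ n) (hP : P = f * (n * (n - 1)))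
    (hA : A = f * (n * (2 * n - 1)))
    (h : (3 * P ≤ A + 2 * δ ∧ 2 ^ (p ^ δ) ≤ p ^ (3 * (A - P))) ∨ 3 * P < A + ce p) : p = 2 ∧ f = 1 ∧ n = 4 := by
  obtain ⟨k, rfl⟩ : ∃ k, n = k + 4 := ⟨n - 4, by omega⟩
  have e1 : k + 4 - 1 = k + 3 := rfl
  have e2 : 2 * (k + 4) - 1 = 2 * k + 7 := by omega
  rw [e1] at hP
  rw [e2] at hA
  obtain ⟨D, hD⟩ : ∃ D, D = f * ((k + 4) * (k + 2)) := ⟨_, rfl⟩
  have h3 : 3 * P = A + D := by rw [hP, hA, hD]; ring
  have hE : A - P = f * (k + 4) ^ 2 := by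
    have : A = f * (k + 4) ^ 2 + P := by rw [hP, hA]; ring
    omega
  have hE2 : A - P ≤ 2 * D := by
    rw [hE, hD]
    calc f * (k + 4) ^ 2 ≤ f * (2 * ((k + 4) * (k + 2))) := Nat.mul_le_mul_left _ (by nlinarith)
      _ = _ := by ring
  have hD8 : f * (8 + 6 * k) ≤ D := by
    rw [hD]; exact Nat.mul_le_mul_left _ (by nlinarith)
  have hsm : D < 15 → f = 1 ∧ k = 0 := by
    intro h15
    have h5 : f = 1 := by
      by_contra hcon
      have : 2 * 8 ≤ f * (8 + 6 * k) := Nat.mul_le_mul (by omega) (by omega)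
      omega
    subst h5
    rw [one_mul] at hD hD8
    refine ⟨rfl, ?_⟩
    by_contra hcon
    have : 5 * 3 ≤ (k + 4) * (k + 2) := Nat.mul_le_mul (by omega) (by omega)
    omega
  have hf8 : 8 ≤ D := by
    refine le_trans ?_ hD8
    calc 8 = 1 * 8 := by norm_num
      _ ≤ _ := Nat.mul_le_mul hf (by omega)
  rcases h with ⟨h1, h2⟩ | h1
  · have hDd : D ≤ 2 * δ := by omega
    have hw : 2 ^ (p ^ δ) ≤ p ^ (12 * δ) := h2.trans (Nat.pow_le_pow_right hp.pos (by omega))
    rcases Nat.lt_or_ge p 5 with h5 | h5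
    · have h23 : p = 2 ∨ p = 3 := by
        have := hp.two_le
        have h4 : p ≠ 4 := by rintro rfl; norm_num at hp
        omega
      rcases h23 with rfl | rfl
      · have h4 := num2 hw (by norm_num)
        have := hsm (by omega)
        omega
      · exfalso
        have h4 := num3 hw
        have key : ∀ t, 4 ≤ t → 8 * (12 * t) < 5 * 3 ^ t := by
          intro t ht
          induction t, ht using Nat.le_induction with
          | base => norm_num
          | succ t ht ih => rw [pow_succ]; omega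
        have := key δ (by omega)
        omega
    · exfalso
      have h4 := num5 h5 hw
      obtain ⟨e, rfl⟩ : ∃ e, δ = e + 1 := ⟨δ - 1, by omega⟩
      have h6 : 5 * p ^ e ≤ 28 * (e + 1) := by
        rw [pow_succ] at h4
        have : 5 * p ^ e * (3 * p) ≤ 28 * (e + 1) * (3 * p) := by nlinarith
        exact Nat.le_of_mul_le_mul_right this (by omega)
      have key : ∀ t, 3 ≤ t → 28 * (t + 1) < 5 * 5 ^ t := by
        intro t ht
        induction t, ht using Nat.le_induction with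
        | base => norm_num
        | succ t ht ih => rw [pow_succ]; omega
      have h7 := key e (by omega)
      have h8 : 5 ^ e ≤ p ^ e := Nat.pow_le_pow_left h5 e
      omega
  · by_cases hp2 : p = 2
    · subst hp2
      have hc : ce 2 = 14 := rfl
      have := hsm (by omega)
      omega
    · have hc : ce p = 3 := by rw [ce, if_neg hp2]
      omega

/-- the exceptions for `C n` and the orthogonal groups of odd dimension -/
theorem excC {p f n δ P A : ℕ} (hp : p.Prime) (hf : 1 ≤ f) (hn : 3 ≤ n) (hP : P = f * n ^ 2)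
    (hA : A = f * (n * (2 * n + 1)))
    (h : (3 * P ≤ A + 2 * δ ∧ 2 ^ (p ^ δ) ≤ p ^ (3 * (A - P))) ∨ 3 * P < A + ce p) :
    (p = 2 ∧ n = 3 ∧ f ≤ 2) ∨ (p = 2 ∧ n = 4 ∧ f = 1) ∨ (p = 3 ∧ n = 3 ∧ f = 1) := by
  obtain ⟨k, rfl⟩ : ∃ k, n = k + 3 := ⟨n - 3, by omega⟩
  obtain ⟨D, hD⟩ : ∃ D, D = f * ((k + 3) * (k + 2)) := ⟨_, rfl⟩
  have h3 : 3 * P = A + D := by rw [hP, hA, hD]; ring
  have hE : A - P = f * ((k + 3) * (k + 4)) := by
    have : A = f * ((k + 3) * (k + 4)) + P := by rw [hP, hA]; ring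
    omega
  have hE2 : A - P ≤ 2 * D := by
    rw [hE, hD]
    calc f * ((k + 3) * (k + 4)) ≤ f * (2 * ((k + 3) * (k + 2))) := Nat.mul_le_mul_left _ (by nlinarith)
      _ = _ := by ring
  have hD8 : f * (6 + 5 * k) ≤ D := by
    rw [hD]; exact Nat.mul_le_mul_left _ (by nlinarith)
  have hsm : D < 14 → (k = 0 ∧ f ≤ 2) ∨ (k = 1 ∧ f = 1) := by
    intro h15
    have hk2 : k < 2 := by
      by_contra hcon
      have : 1 * (5 * 4) ≤ f * ((k + 3) * (k + 2)) := Nat.mul_le_mul hf (Nat.mul_le_mul (by omega) (by omega))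
      omega
    interval_cases k <;> omega
  have hsm7 : D < 8 → k = 0 ∧ f = 1 := by
    intro h8
    have := hsm (by omega)
    rcases this with ⟨rfl, h⟩ | ⟨rfl, h⟩ <;> omega
  have hf8 : 6 ≤ D := by
    refine le_trans ?_ hD8
    calc 6 = 1 * 6 := by norm_num
      _ ≤ _ := Nat.mul_le_mul hf (by omega)
  rcases h with ⟨h1, h2⟩ | h1
  · have hDd : D ≤ 2 * δ := by omega
    have hw : 2 ^ (p ^ δ) ≤ p ^ (12 * δ) := h2.trans (Nat.pow_le_pow_right hp.pos (by omega))
    rcases Nat.lt_or_ge p 5 with h5 | h5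
    · have h23 : p = 2 ∨ p = 3 := by
        have := hp.two_le
        have h4 : p ≠ 4 := by rintro rfl; norm_num at hp
        omega
      rcases h23 with rfl | rfl
      · have h4 := num2 hw (by norm_num)
        have := hsm (by omega)
        omega
      · have h4 := num3 hw
        have key : ∀ t, 4 ≤ t → 8 * (12 * t) < 5 * 3 ^ t := by
          intro t ht
          induction t, ht using Nat.le_induction with
          | base => norm_num
          | succ t ht ih => rw [pow_succ]; omega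
        have h5 : δ ≤ 3 := by
          by_contra hcon
          have := key δ (by omega)
          omega
        have := hsm7 (by omega)
        omega
    · exfalso
      have h4 := num5 h5 hw
      obtain ⟨e, rfl⟩ : ∃ e, δ = e + 1 := ⟨δ - 1, by omega⟩
      have h6 : 5 * p ^ e ≤ 28 * (e + 1) := by
        rw [pow_succ] at h4
        have : 5 * p ^ e * (3 * p) ≤ 28 * (e + 1) * (3 * p) := by nlinarith
        exact Nat.le_of_mul_le_mul_right this (by omega)
      have key : ∀ t, 2 ≤ t → 28 * (t + 1) < 5 * 5 ^ t := by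
        intro t ht
        induction t, ht using Nat.le_induction with
        | base => norm_num
        | succ t ht ih => rw [pow_succ]; omega
      have h7 := key e (by omega)
      have h8 : 5 ^ e ≤ p ^ e := Nat.pow_le_pow_left h5 e
      omega
  · by_cases hp2 : p = 2
    · subst hp2
      have hc : ce 2 = 14 := rfl
      have := hsm (by omega)
      omega
    · have hc : ce p = 3 := by rw [ce, if_neg hp2]
      omega

/-! ### upper bounds for the orders -/

theorem prodL_le (q k : ℕ) : ∏ i ∈ range k, (q ^ (i + 2) - 1) ≤ q ^ (k * (k + 3) / 2) := by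
  induction k with
  | zero => simp
  | succ k ih =>
    rw [Finset.prod_range_succ]
    have h1 : (k + 1) * (k + 1 + 3) / 2 = k * (k + 3) / 2 + (k + 2) := by
      have : (k + 1) * (k + 1 + 3) = k * (k + 3) + (k + 2) * 2 := by ring
      rw [this, Nat.add_mul_div_right _ _ (by norm_num)]
    rw [h1, pow_add q (k * (k + 3) / 2) (k + 2)]
    exact Nat.mul_le_mul ih (Nat.sub_le _ _)

theorem prodU_le (q k : ℕ) (hq : 1 ≤ q) :
    ∏ i ∈ range k, (if Even i then q ^ (i + 2) - 1 else q ^ (i + 2) + 1) ≤ q ^ (k * (k + 3) / 2) := by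
  have hev : ∀ j, ∏ i ∈ range (2 * j), (if Even i then q ^ (i + 2) - 1 else q ^ (i + 2) + 1) ≤
      q ^ (2 * j * (2 * j + 3) / 2) := by
    intro j
    induction j with
    | zero => simp
    | succ j ih =>
      rw [show 2 * (j + 1) = 2 * j + 1 + 1 by ring, Finset.prod_range_succ, Finset.prod_range_succ,
        if_pos (even_two_mul j), if_neg (Nat.not_even_two_mul_add_one j)]
      have h1 : (2 * j + 1 + 1) * (2 * j + 1 + 1 + 3) / 2 = 2 * j * (2 * j + 3) / 2 + (4 * j + 5) := by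
        have : (2 * j + 1 + 1) * (2 * j + 1 + 1 + 3) = 2 * j * (2 * j + 3) + (4 * j + 5) * 2 := by ring
        rw [this, Nat.add_mul_div_right _ _ (by norm_num)]
      rw [h1, pow_add q (2 * j * (2 * j + 3) / 2) (4 * j + 5), mul_assoc]
      refine Nat.mul_le_mul ih ?_
      obtain ⟨x, hx⟩ : ∃ x, q ^ (2 * j + 2) = x + 1 := ⟨q ^ (2 * j + 2) - 1, by
        have := Nat.one_le_pow (2 * j + 2) q hq; omega⟩
      have h2 : q ^ (2 * j + 1 + 2) = (x + 1) * q := by rw [← hx]; ring
      have h3 : q ^ (4 * j + 5) = (x + 1) * ((x + 1) * q) := by rw [← hx]; ring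
      rw [hx, h2, h3, Nat.add_sub_cancel]
      nlinarith [Nat.mul_le_mul_left x hq]
  rcases Nat.even_or_odd' k with ⟨j, rfl | rfl⟩
  · exact hev j
  · rw [Finset.prod_range_succ, if_pos (even_two_mul j)]
    have h1 : (2 * j + 1) * (2 * j + 1 + 3) / 2 = 2 * j * (2 * j + 3) / 2 + (2 * j + 2) := by
      have : (2 * j + 1) * (2 * j + 1 + 3) = 2 * j * (2 * j + 3) + (2 * j + 2) * 2 := by ring
      rw [this, Nat.add_mul_div_right _ _ (by norm_num)]
    rw [h1, pow_add q (2 * j * (2 * j + 3) / 2) (2 * j + 2)]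
    exact Nat.mul_le_mul (hev j) (Nat.sub_le _ _)

theorem sumLU (k : ℕ) : (k + 1) * k / 2 + k * (k + 3) / 2 = (k + 1) ^ 2 - 1 := by
  have h1 : 2 * ((k + 1) * k / 2) = (k + 1) * k :=
    Nat.two_mul_div_two_of_even (by rw [mul_comm]; exact Nat.even_mul_succ_self k)
  have h2 : 2 * (k * (k + 3) / 2) = k * (k + 3) := by
    apply Nat.two_mul_div_two_of_even
    have : k * (k + 3) = k * (k + 1) + 2 * k := by ring
    rw [this]
    exact (Nat.even_mul_succ_self k).add (even_two_mul k)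
  have h3 : (k + 1) ^ 2 = (k * (k + 2)) + 1 := by ring
  have h4 : (k + 1) * k + k * (k + 3) = 2 * (k * (k + 2)) := by ring
  omega

theorem card_le_L {p f n M : ℕ} (hY : Art.Real (.L n) p f M) : M ≤ p ^ (f * (n ^ 2 - 1)) := by
  have hn : 2 ≤ n := hY.ok.1
  obtain ⟨k, rfl⟩ : ∃ k, n = k + 1 := ⟨n - 1, by omega⟩
  refine hY.M_le.trans ?_
  show (p ^ f) ^ ((k + 1) * k / 2) * ∏ i ∈ range k, ((p ^ f) ^ (i + 2) - 1) ≤ _
  rw [pow_mul, ← sumLU, pow_add]
  exact Nat.mul_le_mul_left _ (prodL_le _ _)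

theorem card_le_U {p f n M : ℕ} (hY : Art.Real (.U n) p f M) : M ≤ p ^ (f * (n ^ 2 - 1)) := by
  have hn : 3 ≤ n := hY.ok.1
  have hq := hY.q_ge
  obtain ⟨k, rfl⟩ : ∃ k, n = k + 1 := ⟨n - 1, by omega⟩
  refine hY.M_le.trans ?_
  show (p ^ f) ^ ((k + 1) * k / 2) *
    ∏ i ∈ range k, (if Even i then (p ^ f) ^ (i + 2) - 1 else (p ^ f) ^ (i + 2) + 1) ≤ _
  rw [pow_mul, ← sumLU, pow_add]
  exact Nat.mul_le_mul_left _ (prodU_le _ _ (by omega))

theorem card_le_C {p f n M : ℕ} (hY : Art.Real (.C n) p f M) : M ≤ p ^ (f * (n * (2 * n + 1))) := by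
  refine hY.M_le.trans ?_
  show (p ^ f) ^ (n ^ 2) * ∏ i ∈ range n, ((p ^ f) ^ (2 * (i + 1)) - 1) ≤ _
  calc _ ≤ (p ^ f) ^ (n ^ 2) * (p ^ f) ^ (n * (n + 1)) :=
        Nat.mul_le_mul_left _ (Cfsg.Agent.H364.OrthRow.prod_le _ _)
    _ = _ := by rw [← pow_add, pow_mul]; congr 1; ring

/-! ### the theorems -/

section main

variable {S : Type u} [Group S] [Finite S] [IsSimpleGroup S] (hk : IsKnownSimple' S)
  (hna : ¬ ∀ a b : S, a * b = b * a) {p f n M δ : ℕ} (hd : p ^ δ ∣ Nat.card (Cfsg.Out S))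
  (hle : Nat.card S * p ^ δ ≤ M)
include hk hna hd hle

theorem elimL (hY : Art.Real (.L n) p f M) (hn : 4 ≤ n)
    (hv : (Nat.card S).factorization p + δ = f * Art.NN (.L n)) : IsLieTypeChar p S ∨ exLU p f n := by
  by_cases hlie : IsLieTypeChar p S
  · exact Or.inl hlie
  have hP : Art.NN (.L n) = n * (n - 1) / 2 := rfl
  have hPA : f * (n * (n - 1) / 2) ≤ f * (n ^ 2 - 1) := by
    apply Nat.mul_le_mul_left
    obtain ⟨k, rfl⟩ : ∃ k, n = k + 1 := ⟨n - 1, by omega⟩
    rw [← sumLU, Nat.add_sub_cancel]; omega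
  rw [hP] at hv
  exact Or.inr (excLU hY.hp hY.hf hn rfl rfl (elim hk hna hY.hp hlie hd (hle.trans (card_le_L hY)) hv hPA))

theorem elimU (hY : Art.Real (.U n) p f M) (hn : 4 ≤ n)
    (hv : (Nat.card S).factorization p + δ = f * Art.NN (.U n)) : IsLieTypeChar p S ∨ exLU p f n := by
  by_cases hlie : IsLieTypeChar p S
  · exact Or.inl hlie
  have hP : Art.NN (.U n) = n * (n - 1) / 2 := rfl
  have hPA : f * (n * (n - 1) / 2) ≤ f * (n ^ 2 - 1) := by
    apply Nat.mul_le_mul_left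
    obtain ⟨k, rfl⟩ : ∃ k, n = k + 1 := ⟨n - 1, by omega⟩
    rw [← sumLU, Nat.add_sub_cancel]; omega
  rw [hP] at hv
  exact Or.inr (excLU hY.hp hY.hf hn rfl rfl (elim hk hna hY.hp hlie hd (hle.trans (card_le_U hY)) hv hPA))

theorem elimD (hY : Art.Real (.D n) p f M)
    (hv : (Nat.card S).factorization p + δ = f * Art.NN (.D n)) : IsLieTypeChar p S ∨ (p = 2 ∧ f = 1 ∧ n = 4) := by
  by_cases hlie : IsLieTypeChar p S
  · exact Or.inl hlie
  have hn : 4 ≤ n := hY.ok
  have hP : Art.NN (.D n) = n * (n - 1) := rfl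
  have hPA : f * (n * (n - 1)) ≤ f * (n * (2 * n - 1)) :=
    Nat.mul_le_mul_left _ (Nat.mul_le_mul_left _ (by omega))
  rw [hP] at hv
  exact Or.inr (excD hY.hp hY.hf hn rfl rfl
    (elim hk hna hY.hp hlie hd (hle.trans (Cfsg.Agent.H364.OrthRow.card_le_plus hY)) hv hPA))

theorem elimDD (hY : Art.Real (.DD n) p f M)
    (hv : (Nat.card S).factorization p + δ = f * Art.NN (.DD n)) : IsLieTypeChar p S ∨ (p = 2 ∧ f = 1 ∧ n = 4) := by
  by_cases hlie : IsLieTypeChar p S
  · exact Or.inl hlie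
  have hn : 4 ≤ n := hY.ok
  have hP : Art.NN (.DD n) = n * (n - 1) := rfl
  have hPA : f * (n * (n - 1)) ≤ f * (n * (2 * n - 1)) :=
    Nat.mul_le_mul_left _ (Nat.mul_le_mul_left _ (by omega))
  rw [hP] at hv
  exact Or.inr (excD hY.hp hY.hf hn rfl rfl
    (elim hk hna hY.hp hlie hd (hle.trans (Cfsg.Agent.H364.OrthRow.card_le_minus hY)) hv hPA))

theorem elimC (hY : Art.Real (.C n) p f M) (hn : 3 ≤ n)
    (hv : (Nat.card S).factorization p + δ = f * Art.NN (.C n)) :
    IsLieTypeChar p S ∨ ((p = 2 ∧ n = 3 ∧ f ≤ 2) ∨ (p = 2 ∧ n = 4 ∧ f = 1) ∨ (p = 3 ∧ n = 3 ∧ f = 1)) := by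
  by_cases hlie : IsLieTypeChar p S
  · exact Or.inl hlie
  have hP : Art.NN (.C n) = n ^ 2 := rfl
  have hPA : f * n ^ 2 ≤ f * (n * (2 * n + 1)) := by
    apply Nat.mul_le_mul_left
    rw [sq]
    exact Nat.mul_le_mul_left _ (by omega)
  rw [hP] at hv
  exact Or.inr (excC hY.hp hY.hf hn rfl rfl (elim hk hna hY.hp hlie hd (hle.trans (card_le_C hY)) hv hPA))

end main

end Cfsg.Agent.H370.AAM
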