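import Mathlib
import Cfsg.Agent.H370.AAM.Row
import Cfsg.Agent.H370.AAM.Elim
import Cfsg.Agent.H364.MinusEight

/-!
# The rows `PΩ⁻(2n, q)` and `PΩ⁺(2n, q)`, `n` odd, from two primes not adjacent to the characteristic (helper370)
-/

set_option autoImplicit false
set_option linter.style.haveILetI false

namespace Cfsg.Agent.H370.AAM

open Subgroup Cfsg Cfsg.Agent.OrdDiv Cfsg.Agent.H364 Cfsg.Agent.H902
open Cfsg.Agent.H364.ArithU Cfsg.Agent.H364.OrthRow

universe u v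

theorem dom' {X : Art.Sh} {p f M : ℕ} (h : Art.Real X p f M) (hX : X ≠ .L 2) {r : ℕ} (hr : r.Prime) (hrp : r ≠ p)
    (h33 : ¬ (X = .U 3 ∧ p ^ f = 3 ∧ r = 2)) (h42 : ¬ (X = .U 4 ∧ p ^ f = 2 ∧ r = 3)) :
    r ^ M.factorization r ≤ p ^ (f * Art.NN X) := by
  have h1 := h.dom hX hr hrp h33 h42
  rwa [Art.P, ← pow_mul] at h1

/-- **The structure of a group with the order and two nonadjacent primes of `PΩ⁻(2n, q)`.** -/
theorem minus_core {G : Type u} [Group G] [Finite G] {n p f : ℕ} (hY : Art.Real (.DD n) p f (Nat.card G))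
    (h42 : ¬ (n = 4 ∧ p = 2 ∧ f = 1))
    (hE : ∀ t, t.Prime → t ≠ p → (orderOf ((p ^ f : ℕ) : ZMod t) = 2 * n ∨ orderOf ((p ^ f : ℕ) : ZMod t) = 2 * (n - 1)) →
      NoEdge G t p) :
    ∃ (K : Subgroup G) (_ : K.Normal) (H : Subgroup (G ⧸ K)), IsSimpleGroup H ∧ (¬ ∀ x y : H, x * y = y * x) ∧
      Nat.card H = Nat.card G := by
  have hp := hY.hp
  have hf := hY.hf
  have hn : 4 ≤ n := hY.ok
  have h8 : 8 ≤ f * (2 * n) := by nlinarith
  have h6' : 6 ≤ f * (2 * (n - 1)) := by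
    have : 3 ≤ n - 1 := by omega
    nlinarith
  have hex : ¬ (p = 2 ∧ f * (2 * (n - 1)) = 6) := by
    rintro ⟨h1, h2⟩
    have h3 : f * (n - 1) = 3 := by
      have : f * (2 * (n - 1)) = 2 * (f * (n - 1)) := by ring
      omega
    have h4 : n - 1 ≤ f * (n - 1) := Nat.le_mul_of_pos_left _ hf
    have h5 : n = 4 := by omega
    subst h5
    exact h42 ⟨rfl, h1, by omega⟩
  obtain ⟨r, hr, hrp, hro⟩ := exists_ppd (p := p) (n := f * (2 * n)) hp (by omega) (by omega)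
  obtain ⟨s, hs', hsp, hso⟩ := exists_ppd (p := p) (n := f * (2 * (n - 1))) hp (by omega) hex
  have hEr : NoEdge G r p := hE r hr hrp (Or.inl (orderOf_pow_card hf hro))
  have hEs : NoEdge G s p := hE s hs' hsp (Or.inr (orderOf_pow_card hf hso))
  have hsG : s ∣ Nat.card G := hY.dvd_of_order_BM hs' (by show 2 * n < 2 * (2 * (n - 1)); omega) hso (by
    show 3 ≤ f * (2 * (n - 1)); omega)
  obtain ⟨K, hK, H, h1, h2, h3⟩ := main hY hr hro (by show 6 ≤ f * (2 * n); omega)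
    hs' hso (by omega) hsG hEr hEs (lcm_two n (by omega) f hf)
    (dom' hY (by simp) hr hrp (by simp) (by simp)) (dom' hY (by simp) hs' hsp (by simp) (by simp)) (by
      intro S _ _ _ hna δ hd hle _ hv _ _ _ _ _
      left
      rcases elimDD (Cfsg.Agent.S0000.result (G := S)) hna hd hle hY hv with h | h
      · exact h
      · exact absurd ⟨h.2.2, h.1, h.2.1⟩ h42)
  refine ⟨K, hK, H, h1, h2, ?_⟩
  rcases h3 with h | ⟨X, g, h, -⟩
  · exact h
  · exfalso
    rcases h with ⟨-, h, -⟩ | ⟨-, h, -⟩ | ⟨_, -, -, h, -⟩ | ⟨-, h, -⟩ | ⟨-, h, -⟩ | ⟨-, h, -⟩ | ⟨-, h, -⟩ | ⟨-, h, -⟩ <;>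
      exact absurd h (by simp)

/-- **The structure of a group with the order and two nonadjacent primes of `PΩ⁺(2n, q)`, `n` odd.** -/
theorem plus_core {G : Type u} [Group G] [Finite G] {n p f : ℕ} (hY : Art.Real (.D n) p f (Nat.card G))
    (hn : 5 ≤ n) (hodd : Odd n)
    (hE : ∀ t, t.Prime → t ≠ p → (orderOf ((p ^ f : ℕ) : ZMod t) = n ∨ orderOf ((p ^ f : ℕ) : ZMod t) = 2 * (n - 1)) →
      NoEdge G t p) :
    ∃ (K : Subgroup G) (_ : K.Normal) (H : Subgroup (G ⧸ K)), IsSimpleGroup H ∧ (¬ ∀ x y : H, x * y = y * x) ∧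
      Nat.card H = Nat.card G := by
  have hp := hY.hp
  have hf := hY.hf
  have h8 : 8 ≤ f * (2 * (n - 1)) := by
    have : 4 ≤ n - 1 := by omega
    nlinarith
  have h5 : 5 ≤ f * n := by nlinarith
  have hex : ¬ (p = 2 ∧ f * n = 6) := by
    rintro ⟨-, h2⟩
    have h3 : n ∣ 6 := Dvd.intro_left _ h2
    have h4 := Nat.le_of_dvd (by norm_num) h3
    have h7 : n = 5 ∨ n = 6 := by omega
    rcases h7 with rfl | rfl
    · norm_num at h3
    · exact absurd hodd (by decide)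
  obtain ⟨r, hr, hrp, hro⟩ := exists_ppd (p := p) (n := f * (2 * (n - 1))) hp (by omega) (by omega)
  obtain ⟨s, hs', hsp, hso⟩ := exists_ppd (p := p) (n := f * n) hp (by omega) hex
  have hEr : NoEdge G r p := hE r hr hrp (Or.inr (orderOf_pow_card hf hro))
  have hEs : NoEdge G s p := hE s hs' hsp (Or.inl (orderOf_pow_card hf hso))
  have hsG : s ∣ Nat.card G := by
    apply hY.dvd_of_dvd_num hs'
    · intro h
      have h1 : s ∣ 4 := h.trans (Nat.gcd_dvd_left _ _)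
      have h2 : s ∣ 2 ^ 2 := h1
      exact ne_two_of_order hs' (by omega) hso ((Nat.prime_dvd_prime_iff_eq hs' Nat.prime_two).1 (hs'.dvd_of_dvd_pow h2))
    · refine Dvd.dvd.mul_right ?_ _
      exact (Art.dvd_iff hp n).2 (by rw [hso])
  obtain ⟨K, hK, H, h1, h2, h3⟩ := main hY hr hro (by show 6 ≤ f * (2 * (n - 1)); omega)
    hs' hso (by omega) hsG hEr hEs (lcm_odd n (by omega) hodd f hf)
    (dom' hY (by simp) hr hrp (by simp) (by simp)) (dom' hY (by simp) hs' hsp (by simp) (by simp)) (by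
      intro S _ _ _ hna δ hd hle _ hv _ _ _ _ _
      left
      rcases elimD (Cfsg.Agent.S0000.result (G := S)) hna hd hle hY hv with h | h
      · exact h
      · omega)
  refine ⟨K, hK, H, h1, h2, ?_⟩
  rcases h3 with h | ⟨X, g, h, -⟩
  · exact h
  · exfalso
    rcases h with ⟨-, h, -⟩ | ⟨-, h, -⟩ | ⟨_, -, -, h, -⟩ | ⟨-, h, -⟩ | ⟨-, h, -⟩ | ⟨-, h, -⟩ | ⟨-, h, -⟩ | ⟨-, h, -⟩ <;>
      exact absurd h (by simp)

end Cfsg.Agent.H370.AAM
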