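import Mathlib
import Cfsg.Agent.H370.AAM.Elim
import Cfsg.Agent.H365.CubeF

/-!
# The finitely many small linear and unitary groups: elimination with one prime (helper370)
-/

set_option autoImplicit false

namespace Cfsg.Agent.H370.AAM

open Cfsg Cfsg.Agent.OrdDiv Cfsg.Agent.H902
open Cfsg.Agent.H365.PPart Cfsg.Agent.H365.CubeF

universe u

/-- the `p`-adic valuation, for the kernel -/
def vl (p o : ℕ) : ℕ := (List.range 70).countP fun i => o % p ^ (i + 1) == 0

theorem countP_lt (v n : ℕ) : (List.range n).countP (fun i => decide (i < v)) = min n v := by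
  induction n with
  | zero => simp
  | succ n ih =>
    rw [List.range_succ, List.countP_append, ih, List.countP_singleton]
    by_cases h : n < v
    · simp only [h, decide_true, if_true]; omega
    · simp only [h, decide_false, Bool.false_eq_true, if_false]; omega

theorem vl_eq {p o : ℕ} (hp : p.Prime) (ho : o ≠ 0) (h : o < 2 ^ 70) : vl p o = o.factorization p := by
  have h1 : o.factorization p < 70 := by
    by_contra hcon
    have h2 : p ^ o.factorization p ≤ o := Nat.le_of_dvd (Nat.pos_of_ne_zero ho) (Nat.ordProj_dvd o p)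
    have h3 : 2 ^ 70 ≤ p ^ o.factorization p :=
      (Nat.pow_le_pow_right (by norm_num) (by omega : 70 ≤ o.factorization p)).trans (Nat.pow_le_pow_left hp.two_le _)
    omega
  have h2 : (fun i => o % p ^ (i + 1) == 0) = (fun i => decide (i < o.factorization p)) := by
    funext i
    rw [Bool.eq_iff_iff]
    simp only [beq_iff_eq, decide_eq_true_eq]
    rw [← Nat.dvd_iff_mod_eq_zero, hp.pow_dvd_iff_le_factorization ho]
    exact Nat.succ_le_iff
  rw [vl, h2, countP_lt]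
  omega

/-- the test: `true` if the order `o` is impossible -/
def bad (p P s o : ℕ) : Bool :=
  (o % s != 0) || ((s ^ vl s o - 1) % p ^ (P - vl p o) != 0) ||
    Nat.ble (3 * (Nat.log2 (o / p ^ vl p o) + 1)) (p ^ (P - vl p o))

/-- the names of Lie type in characteristic `p` which occur -/
def lieB (p : ℕ) : Grp → Bool
  | .ominus m q => Nat.ble 4 m && (q == p || q == p ^ 2)
  | .oplus m q => Nat.ble 4 m && (q == p || q == p ^ 2)
  | .psp m q => Nat.ble 3 m && (q == p || q == p ^ 2)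
  | _ => false

theorem dvd_of_or {p q : ℕ} (h : q = p ∨ q = p ^ 2) : p ∣ q := by
  rcases h with rfl | rfl
  · exact dvd_rfl
  · exact dvd_pow_self p (by norm_num)

theorem lieB_spec {S : Type u} [Group S] {p : ℕ} (hp : p.Prime) {g : Grp} (hg : lieB p g = true) (hr : OrdDiv.Real g S) :
    IsLieTypeChar p S := by
  cases g with
  | ominus m q =>
    simp only [lieB, Bool.and_eq_true, Nat.ble_eq, Bool.or_eq_true, beq_iff_eq] at hg
    obtain ⟨F, _, _, a, b, hF, hab, ⟨e⟩⟩ := hr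
    exact Or.inr (Or.inr (Or.inr (Or.inr (Or.inr (Or.inl ⟨F, inferInstance, inferInstance,
      charP_of_dvd hp (by rw [hF]; exact dvd_of_or hg.2), m, a, b, hg.1, hab, ⟨e⟩⟩)))))
  | oplus m q =>
    simp only [lieB, Bool.and_eq_true, Nat.ble_eq, Bool.or_eq_true, beq_iff_eq] at hg
    obtain ⟨F, _, _, hF, ⟨e⟩⟩ := hr
    exact Or.inr (Or.inr (Or.inr (Or.inr (Or.inl ⟨F, inferInstance, inferInstance,
      charP_of_dvd hp (by rw [hF]; exact dvd_of_or hg.2), m, hg.1, ⟨e⟩⟩))))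
  | psp m q =>
    simp only [lieB, Bool.and_eq_true, Nat.ble_eq, Bool.or_eq_true, beq_iff_eq] at hg
    obtain ⟨F, _, _, hF, ⟨e⟩⟩ := hr
    exact Or.inr (Or.inl ⟨F, inferInstance, inferInstance, charP_of_dvd hp (by rw [hF]; exact dvd_of_or hg.2), m,
      by omega, fun h => by omega, ⟨e⟩⟩)
  | _ => exact absurd hg (by simp [lieB])

/-- the order condition on `s`: `q` (`u = false`) or `-q` (`u = true`) has order `k` modulo `s` -/
def okB (u : Bool) (q k s : ℕ) : Bool :=
  (if u && k % 2 == 1 then (q ^ k + 1) % s == 0 else (q ^ k - 1) % s == 0) &&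
    (List.range (k - 1)).all fun j =>
      if u && (j + 1) % 2 == 1 then (q ^ (j + 1) + 1) % s != 0 else (q ^ (j + 1) - 1) % s != 0

theorem modL {q k s : ℕ} (hq : 1 ≤ q) : (q ^ k - 1) % s = 0 ↔ ((q : ℕ) : ZMod s) ^ k = 1 := by
  rw [← Nat.dvd_iff_mod_eq_zero, ← ZMod.natCast_eq_zero_iff, Nat.cast_sub (Nat.one_le_pow _ _ hq), sub_eq_zero]
  push_cast
  rfl

theorem modU {q k s : ℕ} : (q ^ k + 1) % s = 0 ↔ ((q : ℕ) : ZMod s) ^ k = -1 := by
  rw [← Nat.dvd_iff_mod_eq_zero, ← ZMod.natCast_eq_zero_iff]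
  push_cast
  rw [add_eq_zero_iff_eq_neg]

theorem okB_L {q k s : ℕ} (hq : 1 ≤ q) (hk : 1 ≤ k) (ho : orderOf ((q : ℕ) : ZMod s) = k) : okB false q k s = true := by
  simp only [okB, Bool.false_and, Bool.false_eq_true, if_false, Bool.and_eq_true, beq_iff_eq, List.all_eq_true,
    List.mem_range, bne_iff_ne, ne_eq]
  rw [modL hq]
  refine ⟨by rw [← ho]; exact pow_orderOf_eq_one _, fun j hj => ?_⟩
  rw [modL hq]
  intro h
  have := Nat.le_of_dvd (by omega) (orderOf_dvd_of_pow_eq_one h)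
  omega

theorem negpow {q k s : ℕ} : (-((q : ℕ) : ZMod s)) ^ k = 1 ↔
    (if k % 2 = 1 then ((q : ℕ) : ZMod s) ^ k = -1 else ((q : ℕ) : ZMod s) ^ k = 1) := by
  by_cases hk : k % 2 = 1
  · rw [if_pos hk, Odd.neg_pow (Nat.odd_iff.2 hk), neg_eq_iff_eq_neg]
  · rw [if_neg hk, Even.neg_pow (Nat.even_iff.2 (by omega))]

theorem okB_U {q k s : ℕ} (hq : 1 ≤ q) (hk : 1 ≤ k) (ho : orderOf (-((q : ℕ) : ZMod s)) = k) :
    okB true q k s = true := by
  have key : ∀ j, (if (j % 2 == 1) = true then (q ^ j + 1) % s = 0 else (q ^ j - 1) % s = 0) ↔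
      (-((q : ℕ) : ZMod s)) ^ j = 1 := by
    intro j
    rw [negpow]
    by_cases hj : j % 2 = 1
    · simp only [hj, beq_self_eq_true, if_true, modU]
    · rw [if_neg hj, if_neg (by simpa using hj), modL hq]
  simp only [okB, Bool.true_and, Bool.and_eq_true, List.all_eq_true, List.mem_range]
  constructor
  · have h1 := (key k).2 (by rw [← ho]; exact pow_orderOf_eq_one _)
    by_cases hk2 : (k % 2 == 1) = true
    · rw [if_pos hk2] at h1 ⊢; simpa using h1
    · rw [if_neg hk2] at h1 ⊢; simpa using h1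
  · intro j hj
    have h1 : ¬ (-((q : ℕ) : ZMod s)) ^ (j + 1) = 1 := by
      intro h
      have := Nat.le_of_dvd (by omega) (orderOf_dvd_of_pow_eq_one h)
      omega
    rw [← key] at h1
    by_cases hk2 : ((j + 1) % 2 == 1) = true
    · rw [if_pos hk2] at h1 ⊢; simpa using h1
    · rw [if_neg hk2] at h1 ⊢; simpa using h1

/-- the check; `w = true`: the names of Lie type are allowed -/
def chkS (w u : Bool) (q k : ℕ) (l : List (ℕ × ℕ)) (M p P : ℕ) : Bool :=
  l.all fun x => !(okB u q k x.1) || (cands l M).all fun g => ordN g == M || (w && lieB p g) || bad p P x.1 (ordN g)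

theorem of_chkS {S : Type u} [Group S] [Finite S] [IsSimpleGroup S] (hk : IsKnownSimple' S)
    (hna : ¬ ∀ a b : S, a * b = b * a) {w u : Bool} {q k : ℕ} {l : List (ℕ × ℕ)} {M p P s δ : ℕ}
    (hv : valid l M = true) (hM : M < 2 ^ 70) (hd : Nat.card S ∣ M) (hp : p.Prime) (hs : s.Prime)
    (hδ : p ^ δ ∣ Nat.card (Cfsg.Out S)) (hP : (Nat.card S).factorization p + δ = P) (hsS : s ∣ Nat.card S)
    (hsδ : p ^ δ ∣ s ^ (Nat.card S).factorization s - 1) (hok : okB u q k s = true)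
    (hc : chkS w u q k l M p P = true) : (w = true ∧ IsLieTypeChar p S) ∨ Nat.card S = M := by
  obtain ⟨j, hj, -⟩ := exists_pair hv hs le_rfl ((by rw [pow_one]; exact hsS : s ^ 1 ∣ Nat.card S).trans hd)
  obtain ⟨g, hg, hr, ho⟩ := exists_good table hk hna hv hd
  rw [chkS, List.all_eq_true] at hc
  have h1 := hc _ hj
  simp only [hok, Bool.not_true, Bool.false_or, List.all_eq_true] at h1
  have h2 := h1 g hg
  rw [← ho] at h2
  simp only [Bool.or_eq_true, Bool.and_eq_true, beq_iff_eq] at h2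
  rcases h2 with (h2 | h2) | h2
  · exact Or.inr h2
  · exact Or.inl ⟨h2.1, lieB_spec hp h2.2 hr⟩
  exfalso
  have hS0 : Nat.card S ≠ 0 := Nat.card_pos.ne'
  have hM0 : M ≠ 0 := (valid_pos hv).ne'
  have hlt : Nat.card S < 2 ^ 70 := (Nat.le_of_dvd (Nat.pos_of_ne_zero hM0) hd).trans_lt hM
  have hδ' : P - (Nat.card S).factorization p = δ := by omega
  rw [bad, vl_eq hs hS0 hlt, vl_eq hp hS0 hlt, hδ'] at h2
  simp only [Bool.or_eq_true, bne_iff_ne, ne_eq, Nat.ble_eq] at h2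
  rcases h2 with (h2 | h2) | h2
  · exact h2 (Nat.mod_eq_zero_of_dvd hsS)
  · exact h2 (Nat.mod_eq_zero_of_dvd hsδ)
  · obtain ⟨B, hB⟩ := Nat.ordProj_dvd (Nat.card S) p
    have hpv : 0 < p ^ (Nat.card S).factorization p := pow_pos hp.pos _
    have hdiv : Nat.card S / p ^ (Nat.card S).factorization p = B := Nat.div_eq_of_eq_mul_right hpv hB
    rw [hdiv] at h2
    have h3 := two_pow_out hk hna hp hδ (B := B) hB.le
    have h4 : B < 2 ^ (Nat.log2 B + 1) := Nat.lt_log2_self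
    have h5 : B ^ 3 < (2 ^ (Nat.log2 B + 1)) ^ 3 := Nat.pow_lt_pow_left h4 (by norm_num)
    rw [← pow_mul] at h5
    have h6 := (Nat.pow_lt_pow_iff_right (by norm_num : 1 < 2)).1 (h3.trans_lt h5)
    omega

theorem card_of {X : Art.Sh} {p f M N : ℕ} (h : Art.Real X p f M)
    (hN : Art.dd X (p ^ f) * N = (p ^ f) ^ Art.NN X * Art.num X (p ^ f)) : M = N := by
  have h1 := h.eq
  rw [← hN] at h1
  exact Nat.eq_of_mul_eq_mul_left (Nat.pos_of_ne_zero h.dd_ne) h1

section small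

variable {S : Type u} [Group S] [Finite S] [IsSimpleGroup S] (hk : IsKnownSimple' S)
  (hna : ¬ ∀ a b : S, a * b = b * a) {M s δ : ℕ} (hd : Nat.card S ∣ M) (hs : s.Prime)
include hk hna hd hs

theorem sL421 (hM : Art.Real (.L 4) 2 1 M) (ho : orderOf (((2 ^ 1 : ℕ)) : ZMod s) = 3)
    (hδ : 2 ^ δ ∣ Nat.card (Cfsg.Out S)) (hP : (Nat.card S).factorization 2 + δ = 1 * Art.NN (.L 4))
    (hsS : s ∣ Nat.card S) (hsδ : 2 ^ δ ∣ s ^ (Nat.card S).factorization s - 1) :
    Nat.card S = M := by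
  obtain rfl : M = 20160 := card_of hM (by decide +kernel)
  rcases of_chkS hk hna (w := false) (u := false) (q := 2 ^ 1) (k := 3)
    (l := [(2, 6), (3, 2), (5, 1), (7, 1)]) (P := 6)
    (by decide +kernel) (by norm_num) hd hM.hp hs hδ hP hsS hsδ (okB_L (by norm_num) (by norm_num) ho)
    (by decide +kernel) with h | h
  · exact absurd h.1 (by decide)
  · exact h

theorem sL422 (hM : Art.Real (.L 4) 2 2 M) (ho : orderOf (((2 ^ 2 : ℕ)) : ZMod s) = 3)
    (hδ : 2 ^ δ ∣ Nat.card (Cfsg.Out S)) (hP : (Nat.card S).factorization 2 + δ = 2 * Art.NN (.L 4))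
    (hsS : s ∣ Nat.card S) (hsδ : 2 ^ δ ∣ s ^ (Nat.card S).factorization s - 1) :
    IsLieTypeChar 2 S ∨ Nat.card S = M := by
  obtain rfl : M = 987033600 := card_of hM (by decide +kernel)
  rcases of_chkS hk hna (w := true) (u := false) (q := 2 ^ 2) (k := 3)
    (l := [(2, 12), (3, 4), (5, 2), (7, 1), (17, 1)]) (P := 12)
    (by decide +kernel) (by norm_num) hd hM.hp hs hδ hP hsS hsδ (okB_L (by norm_num) (by norm_num) ho)
    (by decide +kernel) with h | h
  · exact Or.inl h.2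
  · exact Or.inr h

theorem sL423 (hM : Art.Real (.L 4) 2 3 M) (ho : orderOf (((2 ^ 3 : ℕ)) : ZMod s) = 3)
    (hδ : 2 ^ δ ∣ Nat.card (Cfsg.Out S)) (hP : (Nat.card S).factorization 2 + δ = 3 * Art.NN (.L 4))
    (hsS : s ∣ Nat.card S) (hsδ : 2 ^ δ ∣ s ^ (Nat.card S).factorization s - 1) :
    Nat.card S = M := by
  obtain rfl : M = 34558531338240 := card_of hM (by decide +kernel)
  rcases of_chkS hk hna (w := false) (u := false) (q := 2 ^ 3) (k := 3)
    (l := [(2, 18), (3, 4), (5, 1), (7, 3), (13, 1), (73, 1)]) (P := 18)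
    (by decide +kernel) (by norm_num) hd hM.hp hs hδ hP hsS hsδ (okB_L (by norm_num) (by norm_num) ho)
    (by decide +kernel) with h | h
  · exact absurd h.1 (by decide)
  · exact h

theorem sL424 (hM : Art.Real (.L 4) 2 4 M) (ho : orderOf (((2 ^ 4 : ℕ)) : ZMod s) = 3)
    (hδ : 2 ^ δ ∣ Nat.card (Cfsg.Out S)) (hP : (Nat.card S).factorization 2 + δ = 4 * Art.NN (.L 4))
    (hsS : s ∣ Nat.card S) (hsδ : 2 ^ δ ∣ s ^ (Nat.card S).factorization s - 1) :
    IsLieTypeChar 2 S ∨ Nat.card S = M := by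
  obtain rfl : M = 1148120010326016000 := card_of hM (by decide +kernel)
  rcases of_chkS hk hna (w := true) (u := false) (q := 2 ^ 4) (k := 3)
    (l := [(2, 24), (3, 4), (5, 3), (7, 1), (13, 1), (17, 2), (257, 1)]) (P := 24)
    (by decide +kernel) (by norm_num) hd hM.hp hs hδ hP hsS hsδ (okB_L (by norm_num) (by norm_num) ho)
    (by decide +kernel) with h | h
  · exact Or.inl h.2
  · exact Or.inr h

theorem sL521 (hM : Art.Real (.L 5) 2 1 M) (ho : orderOf (((2 ^ 1 : ℕ)) : ZMod s) = 4)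
    (hδ : 2 ^ δ ∣ Nat.card (Cfsg.Out S)) (hP : (Nat.card S).factorization 2 + δ = 1 * Art.NN (.L 5))
    (hsS : s ∣ Nat.card S) (hsδ : 2 ^ δ ∣ s ^ (Nat.card S).factorization s - 1) :
    Nat.card S = M := by
  obtain rfl : M = 9999360 := card_of hM (by decide +kernel)
  rcases of_chkS hk hna (w := false) (u := false) (q := 2 ^ 1) (k := 4)
    (l := [(2, 10), (3, 2), (5, 1), (7, 1), (31, 1)]) (P := 10)
    (by decide +kernel) (by norm_num) hd hM.hp hs hδ hP hsS hsδ (okB_L (by norm_num) (by norm_num) ho)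
    (by decide +kernel) with h | h
  · exact absurd h.1 (by decide)
  · exact h

theorem sL522 (hM : Art.Real (.L 5) 2 2 M) (ho : orderOf (((2 ^ 2 : ℕ)) : ZMod s) = 4)
    (hδ : 2 ^ δ ∣ Nat.card (Cfsg.Out S)) (hP : (Nat.card S).factorization 2 + δ = 2 * Art.NN (.L 5))
    (hsS : s ∣ Nat.card S) (hsδ : 2 ^ δ ∣ s ^ (Nat.card S).factorization s - 1) :
    IsLieTypeChar 2 S ∨ Nat.card S = M := by
  obtain rfl : M = 258492255436800 := card_of hM (by decide +kernel)
  rcases of_chkS hk hna (w := true) (u := false) (q := 2 ^ 2) (k := 4)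
    (l := [(2, 20), (3, 5), (5, 2), (7, 1), (11, 1), (17, 1), (31, 1)]) (P := 20)
    (by decide +kernel) (by norm_num) hd hM.hp hs hδ hP hsS hsδ (okB_L (by norm_num) (by norm_num) ho)
    (by decide +kernel) with h | h
  · exact Or.inl h.2
  · exact Or.inr h

theorem sL621 (hM : Art.Real (.L 6) 2 1 M) (ho : orderOf (((2 ^ 1 : ℕ)) : ZMod s) = 5)
    (hδ : 2 ^ δ ∣ Nat.card (Cfsg.Out S)) (hP : (Nat.card S).factorization 2 + δ = 1 * Art.NN (.L 6))
    (hsS : s ∣ Nat.card S) (hsδ : 2 ^ δ ∣ s ^ (Nat.card S).factorization s - 1) :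
    Nat.card S = M := by
  obtain rfl : M = 20158709760 := card_of hM (by decide +kernel)
  rcases of_chkS hk hna (w := false) (u := false) (q := 2 ^ 1) (k := 5)
    (l := [(2, 15), (3, 4), (5, 1), (7, 2), (31, 1)]) (P := 15)
    (by decide +kernel) (by norm_num) hd hM.hp hs hδ hP hsS hsδ (okB_L (by norm_num) (by norm_num) ho)
    (by decide +kernel) with h | h
  · exact absurd h.1 (by decide)
  · exact h

theorem sL431 (hM : Art.Real (.L 4) 3 1 M) (ho : orderOf (((3 ^ 1 : ℕ)) : ZMod s) = 3)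
    (hδ : 3 ^ δ ∣ Nat.card (Cfsg.Out S)) (hP : (Nat.card S).factorization 3 + δ = 1 * Art.NN (.L 4))
    (hsS : s ∣ Nat.card S) (hsδ : 3 ^ δ ∣ s ^ (Nat.card S).factorization s - 1) :
    Nat.card S = M := by
  obtain rfl : M = 6065280 := card_of hM (by decide +kernel)
  rcases of_chkS hk hna (w := false) (u := false) (q := 3 ^ 1) (k := 3)
    (l := [(2, 7), (3, 6), (5, 1), (13, 1)]) (P := 6)
    (by decide +kernel) (by norm_num) hd hM.hp hs hδ hP hsS hsδ (okB_L (by norm_num) (by norm_num) ho)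
    (by decide +kernel) with h | h
  · exact absurd h.1 (by decide)
  · exact h

theorem sL432 (hM : Art.Real (.L 4) 3 2 M) (ho : orderOf (((3 ^ 2 : ℕ)) : ZMod s) = 3)
    (hδ : 3 ^ δ ∣ Nat.card (Cfsg.Out S)) (hP : (Nat.card S).factorization 3 + δ = 2 * Art.NN (.L 4))
    (hsS : s ∣ Nat.card S) (hsδ : 3 ^ δ ∣ s ^ (Nat.card S).factorization s - 1) :
    IsLieTypeChar 3 S ∨ Nat.card S = M := by
  obtain rfl : M = 50759843097600 := card_of hM (by decide +kernel)
  rcases of_chkS hk hna (w := true) (u := false) (q := 3 ^ 2) (k := 3)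
    (l := [(2, 10), (3, 12), (5, 2), (7, 1), (13, 1), (41, 1)]) (P := 12)
    (by decide +kernel) (by norm_num) hd hM.hp hs hδ hP hsS hsδ (okB_L (by norm_num) (by norm_num) ho)
    (by decide +kernel) with h | h
  · exact Or.inl h.2
  · exact Or.inr h

theorem sL531 (hM : Art.Real (.L 5) 3 1 M) (ho : orderOf (((3 ^ 1 : ℕ)) : ZMod s) = 4)
    (hδ : 3 ^ δ ∣ Nat.card (Cfsg.Out S)) (hP : (Nat.card S).factorization 3 + δ = 1 * Art.NN (.L 5))
    (hsS : s ∣ Nat.card S) (hsδ : 3 ^ δ ∣ s ^ (Nat.card S).factorization s - 1) :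
    Nat.card S = M := by
  obtain rfl : M = 237783237120 := card_of hM (by decide +kernel)
  rcases of_chkS hk hna (w := false) (u := false) (q := 3 ^ 1) (k := 4)
    (l := [(2, 9), (3, 10), (5, 1), (11, 2), (13, 1)]) (P := 10)
    (by decide +kernel) (by norm_num) hd hM.hp hs hδ hP hsS hsδ (okB_L (by norm_num) (by norm_num) ho)
    (by decide +kernel) with h | h
  · exact absurd h.1 (by decide)
  · exact h

theorem sL451 (hM : Art.Real (.L 4) 5 1 M) (ho : orderOf (((5 ^ 1 : ℕ)) : ZMod s) = 3)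
    (hδ : 5 ^ δ ∣ Nat.card (Cfsg.Out S)) (hP : (Nat.card S).factorization 5 + δ = 1 * Art.NN (.L 4))
    (hsS : s ∣ Nat.card S) (hsδ : 5 ^ δ ∣ s ^ (Nat.card S).factorization s - 1) :
    Nat.card S = M := by
  obtain rfl : M = 7254000000 := card_of hM (by decide +kernel)
  rcases of_chkS hk hna (w := false) (u := false) (q := 5 ^ 1) (k := 3)
    (l := [(2, 7), (3, 2), (5, 6), (13, 1), (31, 1)]) (P := 6)
    (by decide +kernel) (by norm_num) hd hM.hp hs hδ hP hsS hsδ (okB_L (by norm_num) (by norm_num) ho)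
    (by decide +kernel) with h | h
  · exact absurd h.1 (by decide)
  · exact h

theorem sL452 (hM : Art.Real (.L 4) 5 2 M) (ho : orderOf (((5 ^ 2 : ℕ)) : ZMod s) = 3)
    (hδ : 5 ^ δ ∣ Nat.card (Cfsg.Out S)) (hP : (Nat.card S).factorization 5 + δ = 2 * Art.NN (.L 4))
    (hsS : s ∣ Nat.card S) (hsδ : 5 ^ δ ∣ s ^ (Nat.card S).factorization s - 1) :
    IsLieTypeChar 5 S ∨ Nat.card S = M := by
  obtain rfl : M = 232442642250000000000 := card_of hM (by decide +kernel)
  rcases of_chkS hk hna (w := true) (u := false) (q := 5 ^ 2) (k := 3)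
    (l := [(2, 10), (3, 4), (5, 12), (7, 1), (13, 2), (31, 1), (313, 1)]) (P := 12)
    (by decide +kernel) (by norm_num) hd hM.hp hs hδ hP hsS hsδ (okB_L (by norm_num) (by norm_num) ho)
    (by decide +kernel) with h | h
  · exact Or.inl h.2
  · exact Or.inr h

theorem sL471 (hM : Art.Real (.L 4) 7 1 M) (ho : orderOf (((7 ^ 1 : ℕ)) : ZMod s) = 3)
    (hδ : 7 ^ δ ∣ Nat.card (Cfsg.Out S)) (hP : (Nat.card S).factorization 7 + δ = 1 * Art.NN (.L 4))
    (hsS : s ∣ Nat.card S) (hsδ : 7 ^ δ ∣ s ^ (Nat.card S).factorization s - 1) :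
    Nat.card S = M := by
  obtain rfl : M = 2317591180800 := card_of hM (by decide +kernel)
  rcases of_chkS hk hna (w := false) (u := false) (q := 7 ^ 1) (k := 3)
    (l := [(2, 9), (3, 4), (5, 2), (7, 6), (19, 1)]) (P := 6)
    (by decide +kernel) (by norm_num) hd hM.hp hs hδ hP hsS hsδ (okB_L (by norm_num) (by norm_num) ho)
    (by decide +kernel) with h | h
  · exact absurd h.1 (by decide)
  · exact h

theorem sU422 (hM : Art.Real (.U 4) 2 2 M) (ho : orderOf (-((2 ^ 2 : ℕ) : ZMod s)) = 3)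
    (hδ : 2 ^ δ ∣ Nat.card (Cfsg.Out S)) (hP : (Nat.card S).factorization 2 + δ = 2 * Art.NN (.U 4))
    (hsS : s ∣ Nat.card S) (hsδ : 2 ^ δ ∣ s ^ (Nat.card S).factorization s - 1) :
    Nat.card S = M := by
  obtain rfl : M = 1018368000 := card_of hM (by decide +kernel)
  rcases of_chkS hk hna (w := false) (u := true) (q := 2 ^ 2) (k := 3)
    (l := [(2, 12), (3, 2), (5, 3), (13, 1), (17, 1)]) (P := 12)
    (by decide +kernel) (by norm_num) hd hM.hp hs hδ hP hsS hsδ (okB_U (by norm_num) (by norm_num) ho)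
    (by decide +kernel) with h | h
  · exact absurd h.1 (by decide)
  · exact h

theorem sU423 (hM : Art.Real (.U 4) 2 3 M) (ho : orderOf (-((2 ^ 3 : ℕ) : ZMod s)) = 3)
    (hδ : 2 ^ δ ∣ Nat.card (Cfsg.Out S)) (hP : (Nat.card S).factorization 2 + δ = 3 * Art.NN (.U 4))
    (hsS : s ∣ Nat.card S) (hsδ : 2 ^ δ ∣ s ^ (Nat.card S).factorization s - 1) :
    Nat.card S = M := by
  obtain rfl : M = 34693789777920 := card_of hM (by decide +kernel)
  rcases of_chkS hk hna (w := false) (u := true) (q := 2 ^ 3) (k := 3)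
    (l := [(2, 18), (3, 7), (5, 1), (7, 2), (13, 1), (19, 1)]) (P := 18)
    (by decide +kernel) (by norm_num) hd hM.hp hs hδ hP hsS hsδ (okB_U (by norm_num) (by norm_num) ho)
    (by decide +kernel) with h | h
  · exact absurd h.1 (by decide)
  · exact h

theorem sU424 (hM : Art.Real (.U 4) 2 4 M) (ho : orderOf (-((2 ^ 4 : ℕ) : ZMod s)) = 3)
    (hδ : 2 ^ δ ∣ Nat.card (Cfsg.Out S)) (hP : (Nat.card S).factorization 2 + δ = 4 * Art.NN (.U 4))
    (hsS : s ∣ Nat.card S) (hsδ : 2 ^ δ ∣ s ^ (Nat.card S).factorization s - 1) :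
    Nat.card S = M := by
  obtain rfl : M = 1148680752699801600 := card_of hM (by decide +kernel)
  rcases of_chkS hk hna (w := false) (u := true) (q := 2 ^ 4) (k := 3)
    (l := [(2, 24), (3, 2), (5, 2), (17, 3), (241, 1), (257, 1)]) (P := 24)
    (by decide +kernel) (by norm_num) hd hM.hp hs hδ hP hsS hsδ (okB_U (by norm_num) (by norm_num) ho)
    (by decide +kernel) with h | h
  · exact absurd h.1 (by decide)
  · exact h

theorem sU521 (hM : Art.Real (.U 5) 2 1 M) (ho : orderOf (-((2 ^ 1 : ℕ) : ZMod s)) = 4)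
    (hδ : 2 ^ δ ∣ Nat.card (Cfsg.Out S)) (hP : (Nat.card S).factorization 2 + δ = 1 * Art.NN (.U 5))
    (hsS : s ∣ Nat.card S) (hsδ : 2 ^ δ ∣ s ^ (Nat.card S).factorization s - 1) :
    Nat.card S = M := by
  obtain rfl : M = 13685760 := card_of hM (by decide +kernel)
  rcases of_chkS hk hna (w := false) (u := true) (q := 2 ^ 1) (k := 4)
    (l := [(2, 10), (3, 5), (5, 1), (11, 1)]) (P := 10)
    (by decide +kernel) (by norm_num) hd hM.hp hs hδ hP hsS hsδ (okB_U (by norm_num) (by norm_num) ho)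
    (by decide +kernel) with h | h
  · exact absurd h.1 (by decide)
  · exact h

theorem sU522 (hM : Art.Real (.U 5) 2 2 M) (ho : orderOf (-((2 ^ 2 : ℕ) : ZMod s)) = 4)
    (hδ : 2 ^ δ ∣ Nat.card (Cfsg.Out S)) (hP : (Nat.card S).factorization 2 + δ = 2 * Art.NN (.U 5))
    (hsS : s ∣ Nat.card S) (hsδ : 2 ^ δ ∣ s ^ (Nat.card S).factorization s - 1) :
    Nat.card S = M := by
  obtain rfl : M = 53443952640000 := card_of hM (by decide +kernel)
  rcases of_chkS hk hna (w := false) (u := true) (q := 2 ^ 2) (k := 4)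
    (l := [(2, 20), (3, 2), (5, 4), (13, 1), (17, 1), (41, 1)]) (P := 20)
    (by decide +kernel) (by norm_num) hd hM.hp hs hδ hP hsS hsδ (okB_U (by norm_num) (by norm_num) ho)
    (by decide +kernel) with h | h
  · exact absurd h.1 (by decide)
  · exact h

theorem sU621 (hM : Art.Real (.U 6) 2 1 M) (ho : orderOf (-((2 ^ 1 : ℕ) : ZMod s)) = 5)
    (hδ : 2 ^ δ ∣ Nat.card (Cfsg.Out S)) (hP : (Nat.card S).factorization 2 + δ = 1 * Art.NN (.U 6))
    (hsS : s ∣ Nat.card S) (hsδ : 2 ^ δ ∣ s ^ (Nat.card S).factorization s - 1) :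
    Nat.card S = M := by
  obtain rfl : M = 9196830720 := card_of hM (by decide +kernel)
  rcases of_chkS hk hna (w := false) (u := true) (q := 2 ^ 1) (k := 5)
    (l := [(2, 15), (3, 6), (5, 1), (7, 1), (11, 1)]) (P := 15)
    (by decide +kernel) (by norm_num) hd hM.hp hs hδ hP hsS hsδ (okB_U (by norm_num) (by norm_num) ho)
    (by decide +kernel) with h | h
  · exact absurd h.1 (by decide)
  · exact h

theorem sU431 (hM : Art.Real (.U 4) 3 1 M) (ho : orderOf (-((3 ^ 1 : ℕ) : ZMod s)) = 3)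
    (hδ : 3 ^ δ ∣ Nat.card (Cfsg.Out S)) (hP : (Nat.card S).factorization 3 + δ = 1 * Art.NN (.U 4))
    (hsS : s ∣ Nat.card S) (hsδ : 3 ^ δ ∣ s ^ (Nat.card S).factorization s - 1) :
    Nat.card S = M := by
  obtain rfl : M = 3265920 := card_of hM (by decide +kernel)
  rcases of_chkS hk hna (w := false) (u := true) (q := 3 ^ 1) (k := 3)
    (l := [(2, 7), (3, 6), (5, 1), (7, 1)]) (P := 6)
    (by decide +kernel) (by norm_num) hd hM.hp hs hδ hP hsS hsδ (okB_U (by norm_num) (by norm_num) ho)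
    (by decide +kernel) with h | h
  · exact absurd h.1 (by decide)
  · exact h

theorem sU432 (hM : Art.Real (.U 4) 3 2 M) (ho : orderOf (-((3 ^ 2 : ℕ) : ZMod s)) = 3)
    (hδ : 3 ^ δ ∣ Nat.card (Cfsg.Out S)) (hP : (Nat.card S).factorization 3 + δ = 2 * Art.NN (.U 4))
    (hsS : s ∣ Nat.card S) (hsδ : 3 ^ δ ∣ s ^ (Nat.card S).factorization s - 1) :
    Nat.card S = M := by
  obtain rfl : M = 101798586432000 := card_of hM (by decide +kernel)
  rcases of_chkS hk hna (w := false) (u := true) (q := 3 ^ 2) (k := 3)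
    (l := [(2, 9), (3, 12), (5, 3), (41, 1), (73, 1)]) (P := 12)
    (by decide +kernel) (by norm_num) hd hM.hp hs hδ hP hsS hsδ (okB_U (by norm_num) (by norm_num) ho)
    (by decide +kernel) with h | h
  · exact absurd h.1 (by decide)
  · exact h

theorem sU531 (hM : Art.Real (.U 5) 3 1 M) (ho : orderOf (-((3 ^ 1 : ℕ) : ZMod s)) = 4)
    (hδ : 3 ^ δ ∣ Nat.card (Cfsg.Out S)) (hP : (Nat.card S).factorization 3 + δ = 1 * Art.NN (.U 5))
    (hsS : s ∣ Nat.card S) (hsδ : 3 ^ δ ∣ s ^ (Nat.card S).factorization s - 1) :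
    Nat.card S = M := by
  obtain rfl : M = 258190571520 := card_of hM (by decide +kernel)
  rcases of_chkS hk hna (w := false) (u := true) (q := 3 ^ 1) (k := 4)
    (l := [(2, 11), (3, 10), (5, 1), (7, 1), (61, 1)]) (P := 10)
    (by decide +kernel) (by norm_num) hd hM.hp hs hδ hP hsS hsδ (okB_U (by norm_num) (by norm_num) ho)
    (by decide +kernel) with h | h
  · exact absurd h.1 (by decide)
  · exact h

theorem sU451 (hM : Art.Real (.U 4) 5 1 M) (ho : orderOf (-((5 ^ 1 : ℕ) : ZMod s)) = 3)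
    (hδ : 5 ^ δ ∣ Nat.card (Cfsg.Out S)) (hP : (Nat.card S).factorization 5 + δ = 1 * Art.NN (.U 4))
    (hsS : s ∣ Nat.card S) (hsδ : 5 ^ δ ∣ s ^ (Nat.card S).factorization s - 1) :
    Nat.card S = M := by
  obtain rfl : M = 14742000000 := card_of hM (by decide +kernel)
  rcases of_chkS hk hna (w := false) (u := true) (q := 5 ^ 1) (k := 3)
    (l := [(2, 7), (3, 4), (5, 6), (7, 1), (13, 1)]) (P := 6)
    (by decide +kernel) (by norm_num) hd hM.hp hs hδ hP hsS hsδ (okB_U (by norm_num) (by norm_num) ho)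
    (by decide +kernel) with h | h
  · exact absurd h.1 (by decide)
  · exact h

theorem sU452 (hM : Art.Real (.U 4) 5 2 M) (ho : orderOf (-((5 ^ 2 : ℕ) : ZMod s)) = 3)
    (hδ : 5 ^ δ ∣ Nat.card (Cfsg.Out S)) (hP : (Nat.card S).factorization 5 + δ = 2 * Art.NN (.U 4))
    (hsS : s ∣ Nat.card S) (hsδ : 5 ^ δ ∣ s ^ (Nat.card S).factorization s - 1) :
    Nat.card S = M := by
  obtain rfl : M = 464944793625000000000 := card_of hM (by decide +kernel)
  rcases of_chkS hk hna (w := false) (u := true) (q := 5 ^ 2) (k := 3)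
    (l := [(2, 9), (3, 2), (5, 12), (13, 3), (313, 1), (601, 1)]) (P := 12)
    (by decide +kernel) (by norm_num) hd hM.hp hs hδ hP hsS hsδ (okB_U (by norm_num) (by norm_num) ho)
    (by decide +kernel) with h | h
  · exact absurd h.1 (by decide)
  · exact h

theorem sU471 (hM : Art.Real (.U 4) 7 1 M) (ho : orderOf (-((7 ^ 1 : ℕ) : ZMod s)) = 3)
    (hδ : 7 ^ δ ∣ Nat.card (Cfsg.Out S)) (hP : (Nat.card S).factorization 7 + δ = 1 * Art.NN (.U 4))
    (hsS : s ∣ Nat.card S) (hsδ : 7 ^ δ ∣ s ^ (Nat.card S).factorization s - 1) :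
    Nat.card S = M := by
  obtain rfl : M = 1165572172800 := card_of hM (by decide +kernel)
  rcases of_chkS hk hna (w := false) (u := true) (q := 7 ^ 1) (k := 3)
    (l := [(2, 10), (3, 2), (5, 2), (7, 6), (43, 1)]) (P := 6)
    (by decide +kernel) (by norm_num) hd hM.hp hs hδ hP hsS hsδ (okB_U (by norm_num) (by norm_num) ho)
    (by decide +kernel) with h | h
  · exact absurd h.1 (by decide)
  · exact h

/-- **Elimination of the simple groups not of Lie type in characteristic `p`, type `L n`, `n ≥ 4`.** -/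
theorem elimL' {p f n : ℕ} (hY : Art.Real (.L n) p f M) (hn : 4 ≤ n) (ho : orderOf (((p ^ f : ℕ)) : ZMod s) = n - 1)
    (hδ : p ^ δ ∣ Nat.card (Cfsg.Out S)) (hle : Nat.card S * p ^ δ ≤ M)
    (hP : (Nat.card S).factorization p + δ = f * Art.NN (.L n))
    (hsS : s ∣ Nat.card S) (hsδ : p ^ δ ∣ s ^ (Nat.card S).factorization s - 1) :
    IsLieTypeChar p S ∨ Nat.card S = M := by
  rcases elimL hk hna hδ hle hY hn hP with h | h
  · exact Or.inl h
  have hf := hY.hf
  rcases h with ⟨rfl, rfl, h⟩ | ⟨rfl, rfl, h⟩ | ⟨rfl, rfl, rfl⟩ | ⟨rfl, rfl, h⟩ | ⟨rfl, rfl, rfl⟩ | ⟨rfl, rfl, h⟩ |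
    ⟨rfl, rfl, rfl⟩
  · interval_cases f
    · exact Or.inr (sL421 hk hna hd hs hY ho hδ hP hsS hsδ)
    · exact sL422 hk hna hd hs hY ho hδ hP hsS hsδ
    · exact Or.inr (sL423 hk hna hd hs hY ho hδ hP hsS hsδ)
    · exact sL424 hk hna hd hs hY ho hδ hP hsS hsδ
  · interval_cases f
    · exact Or.inr (sL521 hk hna hd hs hY ho hδ hP hsS hsδ)
    · exact sL522 hk hna hd hs hY ho hδ hP hsS hsδ
  · exact Or.inr (sL621 hk hna hd hs hY ho hδ hP hsS hsδ)
  · interval_cases f
    · exact Or.inr (sL431 hk hna hd hs hY ho hδ hP hsS hsδ)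
    · exact sL432 hk hna hd hs hY ho hδ hP hsS hsδ
  · exact Or.inr (sL531 hk hna hd hs hY ho hδ hP hsS hsδ)
  · interval_cases f
    · exact Or.inr (sL451 hk hna hd hs hY ho hδ hP hsS hsδ)
    · exact sL452 hk hna hd hs hY ho hδ hP hsS hsδ
  · exact Or.inr (sL471 hk hna hd hs hY ho hδ hP hsS hsδ)

/-- **Elimination of the simple groups not of Lie type in characteristic `p`, type `U n`, `n ≥ 4`.** -/
theorem elimU' {p f n : ℕ} (hY : Art.Real (.U n) p f M) (hn : 4 ≤ n) (ho : orderOf (-((p ^ f : ℕ) : ZMod s)) = n - 1)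
    (h42 : ¬ (n = 4 ∧ p = 2 ∧ f = 1))
    (hδ : p ^ δ ∣ Nat.card (Cfsg.Out S)) (hle : Nat.card S * p ^ δ ≤ M)
    (hP : (Nat.card S).factorization p + δ = f * Art.NN (.U n))
    (hsS : s ∣ Nat.card S) (hsδ : p ^ δ ∣ s ^ (Nat.card S).factorization s - 1) :
    IsLieTypeChar p S ∨ Nat.card S = M := by
  rcases elimU hk hna hδ hle hY hn hP with h | h
  · exact Or.inl h
  have hf := hY.hf
  rcases h with ⟨rfl, rfl, h⟩ | ⟨rfl, rfl, h⟩ | ⟨rfl, rfl, rfl⟩ | ⟨rfl, rfl, h⟩ | ⟨rfl, rfl, rfl⟩ | ⟨rfl, rfl, h⟩ |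
    ⟨rfl, rfl, rfl⟩
  · interval_cases f
    · exact absurd ⟨rfl, rfl, rfl⟩ h42
    · exact Or.inr (sU422 hk hna hd hs hY ho hδ hP hsS hsδ)
    · exact Or.inr (sU423 hk hna hd hs hY ho hδ hP hsS hsδ)
    · exact Or.inr (sU424 hk hna hd hs hY ho hδ hP hsS hsδ)
  · interval_cases f
    · exact Or.inr (sU521 hk hna hd hs hY ho hδ hP hsS hsδ)
    · exact Or.inr (sU522 hk hna hd hs hY ho hδ hP hsS hsδ)
  · exact Or.inr (sU621 hk hna hd hs hY ho hδ hP hsS hsδ)
  · interval_cases f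
    · exact Or.inr (sU431 hk hna hd hs hY ho hδ hP hsS hsδ)
    · exact Or.inr (sU432 hk hna hd hs hY ho hδ hP hsS hsδ)
  · exact Or.inr (sU531 hk hna hd hs hY ho hδ hP hsS hsδ)
  · interval_cases f
    · exact Or.inr (sU451 hk hna hd hs hY ho hδ hP hsS hsδ)
    · exact Or.inr (sU452 hk hna hd hs hY ho hδ hP hsS hsδ)
  · exact Or.inr (sU471 hk hna hd hs hY ho hδ hP hsS hsδ)

end small

end Cfsg.Agent.H370.AAM
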