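import Mathlib
import Cfsg.Agent.H370.AAM.Row
import Cfsg.Agent.H370.AAM.Small
import Cfsg.Agent.H364.OrthRow
import Cfsg.Agent.H431.CS.Defs

/-!
# From a simple section to the conclusion, `PSL_n` and `PSU_n` (helper370)
-/

set_option autoImplicit false
set_option linter.style.haveILetI false

namespace Cfsg.Agent.H370.AAM

open Subgroup Cfsg Cfsg.Agent.OrdDiv Cfsg.Agent.H364 Cfsg.Agent.H902
open Cfsg.Agent.H364.ArithU Cfsg.Agent.H363.Frat Cfsg.Agent.H363.Master

universe u v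

/-- the largest exponent of a divisor is not larger -/
theorem le_DM' {X Y : Art.Sh} {p f g MX MY : ℕ} (hX : Art.Real X p g MX) (hY : Art.Real Y p f MY) (hdvd : MX ∣ MY)
    (h3' : 3 ≤ f * Art.DM Y) (h6 : p = 2 → 6 ≤ f * Art.DM Y) : g * Art.DM X ≤ f * Art.DM Y := by
  by_cases h3 : 3 ≤ g * Art.DM X
  · by_cases hex : p = 2 ∧ g * Art.DM X = 6
    · have := h6 hex.1
      omega
    · obtain ⟨t, ht, htp, ho⟩ := exists_ppd hX.hp h3 hex
      have h1 : t ∣ MX := hX.dvd_of_order_DM ht ho h3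
      have hYl := Art.BM_lt hY
      rcases hY.order_cases ht htp (h1.trans hdvd) with h2 | ⟨e, he1, he2, h2⟩
      · rw [ho] at h2
        exact Nat.le_of_dvd (by omega) h2
      · rw [ho] at h2
        have h4 := Nat.le_of_dvd (Nat.mul_pos (by have := hY.hf; omega) he1) h2
        exact h4.trans (Nat.mul_le_mul_left f (by omega))
  · omega

/-- a primitive prime divisor of the largest exponent does not divide an outer index -/
theorem not_dvd_index' {X Y : Art.Sh} {p f g MX MY I r : ℕ} (hX : Art.Real X p g MX) (hY : Art.Real Y p f MY)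
    (hdvd : MX ∣ MY) (h4 : 4 ≤ f * Art.DM Y) (h6 : p = 2 → 6 ≤ f * Art.DM Y) (hr : r.Prime)
    (hro : orderOf (p : ZMod r) = f * Art.DM Y) (hI : OutDat X p g I) : ¬ r ∣ I := by
  intro hrI
  have hg := hX.hf
  have hDle := le_DM' hX hY hdvd (by omega) h6
  have hge := Art.DM_ge hX
  have hr1 : f * Art.DM Y ∣ r - 1 := by
    rw [← hro]
    have := Fact.mk hr
    have hne : (p : ZMod r) ≠ 0 := by
      intro h0
      rw [h0] at hro
      have h1 : (0 : ZMod r) ^ (f * Art.DM Y) = 1 := by rw [← hro]; exact pow_orderOf_eq_one _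
      rw [zero_pow (by omega)] at h1
      exact zero_ne_one h1
    exact orderOf_dvd_of_pow_eq_one (ZMod.pow_card_sub_one_eq_one hne)
  have hr7 : f * Art.DM Y ≤ r - 1 := Nat.le_of_dvd (by have := hr.two_le; omega) hr1
  rcases hI.prime hX hr (by omega) hrI with h1 | ⟨h1, -⟩ | ⟨h1, h2⟩
  · have h3 := Nat.le_of_dvd (by omega) h1
    have h4 : g * 2 ≤ g * Art.DM X := Nat.mul_le_mul_left _ hge.1
    omega
  · rw [hro] at h1
    have h3 := Nat.le_of_dvd (by omega) h1
    have h4 : g * 2 ≤ g * Art.DM X := Nat.mul_le_mul_left _ hge.1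
    omega
  · rw [hro] at h1
    have h3 := Nat.le_of_dvd (by omega) h1
    have h4 : g * 3 ≤ g * Art.DM X := Nat.mul_le_mul_left _ (hge.2 h2)
    omega

/-- the data of a group of outer index -/
theorem outDat {H : Type u} [Group H] [Finite H] [IsSimpleGroup H] (hna : ¬ ∀ x y : H, x * y = y * x) {p : ℕ}
    (hp : p.Prime) {I : ℕ} (hout : I ∣ Nat.card (Cfsg.Out H)) (hlie : IsLieTypeChar p H) :
    ∃ X g, Art.Real X p g (Nat.card H) ∧ OutDat X p g I := by
  obtain ⟨g, X, f', hg, hreal, hX⟩ := LieNam.lie_nam table hp hlie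
  obtain ⟨c, hc1, hc2, hc3⟩ := OutLie.card_out hna hg hreal hX
  exact ⟨X, f', hX, ⟨c, by rw [← hc1]; exact hout, hc2, hc3⟩⟩

/-- **The tail of the row theorem.** `k` is the order of a section prime to `p`, `r`. -/
theorem tail {H : Type u} [Group H] [Finite H] [IsSimpleGroup H] (hna : ¬ ∀ x y : H, x * y = y * x) {Y : Art.Sh}
    {p f r k I M : ℕ} (hY : Art.Real Y p f M) (hr : r.Prime) (hro : orderOf (p : ZMod r) = f * Art.DM Y)
    (h4 : 4 ≤ f * Art.DM Y) (h6 : p = 2 → 6 ≤ f * Art.DM Y) (hpk : ¬ p ∣ k) (hrk : ¬ r ∣ k)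
    (hcard : k * (I * Nat.card H) = M) (hout : I ∣ Nat.card (Cfsg.Out H))
    (hlie : IsLieTypeChar p H ∨ Nat.card H = M) :
    Nat.card H = M ∨
      ∃ X g, Cfsg.Agent.H365.Near.Exc X Y p g f ∧ Art.Real X p g (Nat.card H) ∧ OutDat X p g I := by
  rcases hlie with hlie | hlie
  swap
  · exact Or.inl hlie
  have hp := hY.hp
  have hM0 : M ≠ 0 := hY.M_ne
  have hk0 : k ≠ 0 := by rintro rfl; rw [zero_mul] at hcard; exact hM0 hcard.symm
  have hI0 : I ≠ 0 := by rintro rfl; rw [zero_mul, mul_zero] at hcard; exact hM0 hcard.symm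
  have hH0 : Nat.card H ≠ 0 := Nat.card_pos.ne'
  obtain ⟨X, f', hX, hI⟩ := outDat hna hp hout hlie
  have hHd : Nat.card H ∣ M := by rw [← hcard]; exact (Dvd.intro_left _ rfl).trans (Dvd.intro_left _ rfl)
  set δ := I.factorization p with hδdef
  have hδ : (Nat.card H).factorization p + δ = M.factorization p := by
    rw [← hcard, Nat.factorization_mul hk0 (Nat.mul_ne_zero hI0 hH0), Finsupp.add_apply,
      Nat.factorization_eq_zero_of_not_dvd hpk, Nat.factorization_mul hI0 hH0, Finsupp.add_apply, hδdef]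
    omega
  have hpI : p ^ δ ∣ I := Nat.ordProj_dvd _ _
  have hrG : r ∣ M := hY.dvd_of_order_DM hr hro (by omega)
  have hrH : r ∣ Nat.card H := by
    have h1 : r ∣ k * (I * Nat.card H) := by rw [hcard]; exact hrG
    exact ((hr.dvd_mul.1 ((hr.dvd_mul.1 h1).resolve_left hrk)).resolve_left
      (not_dvd_index' hX hY hHd h4 h6 hr hro hI))
  have hδ2 : f * Art.NN Y - f' * Art.NN X = δ := by
    have h1 := fac_self hX
    have h2 := fac_self hY
    omega
  obtain ⟨h24, h6'⟩ := TwoRow.OutDat.dvd hX hI hpI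
  rcases Cfsg.Agent.H365.Near.near_out hX hY hHd hr hro (by omega) hrH (by rw [hδ2]; exact h24)
      (by rw [hδ2]; exact h6') with ⟨rfl, rfl⟩ | h
  · left
    have h1 := hX.eq
    rw [← hY.eq] at h1
    exact Nat.eq_of_mul_eq_mul_left (Nat.pos_of_ne_zero hY.dd_ne) h1
  · exact Or.inr ⟨X, f', h, hX, hI⟩

/-- `PΩ⁻(2n, q₀)` is not an outer-index subgroup of a group of order `|PSL_n(q₀²)|` -/
theorem DDL_false {n p g MX MY I : ℕ} (hn : 4 ≤ n) (hX : Art.Real (.DD n) p g MX) (hY : Art.Real (.L n) p (2 * g) MY)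
    (hpar : Even n ∨ p ^ g = 3) (hMY : I * MX = MY) (hI : OutDat (.DD n) p g I) : False := by
  have hp := hX.hp
  have hg := hX.hf
  have hq := hX.q_ge
  have eX := hX.eq
  have eY := hY.eq
  set q := p ^ g with hqd
  have hq2 : p ^ (2 * g) = q ^ 2 := by rw [hqd, ← pow_mul, mul_comm]
  rw [hq2] at eY
  obtain ⟨m, rfl⟩ : ∃ m, n = m + 2 := ⟨n - 2, by omega⟩
  -- the equation `I * dL * (q ^ 2 - 1) = dDD * (q ^ n - 1)`
  have hNN : (q ^ 2) ^ Art.NN (.L (m + 2)) = q ^ Art.NN (.DD (m + 2)) := by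
    rw [← pow_mul]
    congr 1
    show 2 * ((m + 2) * (m + 2 - 1) / 2) = (m + 2) * (m + 2 - 1)
    apply Nat.two_mul_div_two_of_even
    have e1 : m + 2 - 1 = m + 1 := rfl
    rw [e1, mul_comm]
    exact Nat.even_mul_succ_self (m + 1)
  have hnumX : Art.num (.DD (m + 2)) q = (q ^ (m + 2) + 1) * ∏ i ∈ Finset.range (m + 1), (q ^ (2 * (i + 1)) - 1) := rfl
  have hnumY : Art.num (.L (m + 2)) (q ^ 2) = ∏ i ∈ Finset.range (m + 1), ((q ^ 2) ^ (i + 2) - 1) := rfl
  set R := ∏ i ∈ Finset.range m, (q ^ (2 * (i + 2)) - 1) with hR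
  have h1 : ∏ i ∈ Finset.range (m + 1), (q ^ (2 * (i + 1)) - 1) = R * (q ^ 2 - 1) := by
    rw [Finset.prod_range_succ', hR]
  have h2 : ∏ i ∈ Finset.range (m + 1), ((q ^ 2) ^ (i + 2) - 1) = R * (q ^ (2 * (m + 2)) - 1) := by
    rw [Finset.prod_range_succ, hR]
    simp only [← pow_mul]
  have hRpos : 0 < R := by
    apply Finset.prod_pos
    intro i _
    have : q ^ 1 < q ^ (2 * (i + 2)) := Nat.pow_lt_pow_right (by omega) (by omega)
    rw [pow_one] at this
    omega
  have hsq : q ^ (2 * (m + 2)) - 1 = (q ^ (m + 2) - 1) * (q ^ (m + 2) + 1) := by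
    have : q ^ (2 * (m + 2)) = q ^ (m + 2) * q ^ (m + 2) := by rw [← pow_add]; congr 1; ring
    rw [this, mul_comm (q ^ (m + 2) - 1), ← Nat.mul_self_sub_mul_self_eq, one_mul]
  have key : Art.dd (.L (m + 2)) (q ^ 2) * I * (q ^ 2 - 1) = Art.dd (.DD (m + 2)) q * (q ^ (m + 2) - 1) := by
    have h3 : Art.dd (.L (m + 2)) (q ^ 2) * (I * MX) = q ^ Art.NN (.DD (m + 2)) * (R * ((q ^ (m + 2) - 1) * (q ^ (m + 2) + 1))) := by
      rw [hMY, eY, hNN, hnumY, h2, hsq]
    have h4 : Art.dd (.DD (m + 2)) q * MX = q ^ Art.NN (.DD (m + 2)) * ((q ^ (m + 2) + 1) * (R * (q ^ 2 - 1))) := by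
      rw [eX, hnumX, h1]
    have hpos : 0 < MX * (R * (q ^ (m + 2) + 1) * q ^ Art.NN (.DD (m + 2))) :=
      Nat.mul_pos (Nat.pos_of_ne_zero hX.M_ne) (Nat.mul_pos (Nat.mul_pos hRpos (by omega)) (pow_pos (by omega) _))
    apply Nat.eq_of_mul_eq_mul_right hpos
    calc Art.dd (.L (m + 2)) (q ^ 2) * I * (q ^ 2 - 1) * (MX * (R * (q ^ (m + 2) + 1) * q ^ Art.NN (.DD (m + 2))))
        = Art.dd (.L (m + 2)) (q ^ 2) * (I * MX) * (q ^ Art.NN (.DD (m + 2)) * ((q ^ (m + 2) + 1) * (R * (q ^ 2 - 1)))) := by ring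
      _ = q ^ Art.NN (.DD (m + 2)) * (R * ((q ^ (m + 2) - 1) * (q ^ (m + 2) + 1))) * (Art.dd (.DD (m + 2)) q * MX) := by
          rw [h3, h4]
      _ = _ := by ring
  -- the prime `t` of order `g * n`
  have fin : ∀ t : ℕ, t.Prime → 5 ≤ t → g < t → t ∣ I → False := by
    intro t ht h5 hgt htI
    rcases hI.prime hX ht h5 htI with h | ⟨-, n, h⟩ | ⟨-, n, h⟩
    · have := Nat.le_of_dvd (by omega) h
      omega
    · exact absurd h (by simp)
    · exact absurd h (by simp)
  by_cases hex : p = 2 ∧ g * (m + 2) = 6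
  · obtain ⟨rfl, h6⟩ := hex
    have h7 : g = 1 ∧ m = 4 := by
      have hd : m + 2 ∣ 6 := Dvd.intro_left _ h6
      have hle := Nat.le_of_dvd (by norm_num) hd
      have h8 : m + 2 = 4 ∨ m + 2 = 5 ∨ m + 2 = 6 := by omega
      rcases h8 with h8 | h8 | h8
      · rw [h8] at hd; norm_num at hd
      · rw [h8] at hd; norm_num at hd
      · rw [h8] at h6
        omega
    obtain ⟨rfl, rfl⟩ := h7
    have hq2' : q = 2 := by rw [hqd]; norm_num
    rw [hq2'] at key
    have e1 : Art.dd (.L (4 + 2)) (2 ^ 2) = 3 := by decide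
    have e2 : Art.dd (.DD (4 + 2)) 2 = 1 := by decide
    rw [e1, e2] at key
    norm_num at key
    have h8 : I = 7 := by omega
    exact fin 7 (by norm_num) (by norm_num) (by norm_num) (by rw [h8])
  · have h4 : 4 ≤ g * (m + 2) := hn.trans (Nat.le_mul_of_pos_left _ hg)
    obtain ⟨t, ht, htp, hto⟩ := exists_ppd (p := p) (n := g * (m + 2)) hp (by omega) hex
    have hF := Fact.mk ht
    have htm : g * (m + 2) ∣ t - 1 := by
      rw [← hto]
      have hne : (p : ZMod t) ≠ 0 := by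
        intro h0
        rw [h0] at hto
        have h1 : (0 : ZMod t) ^ (g * (m + 2)) = 1 := by rw [← hto]; exact pow_orderOf_eq_one _
        rw [zero_pow (by omega)] at h1
        exact zero_ne_one h1
      exact orderOf_dvd_of_pow_eq_one (ZMod.pow_card_sub_one_eq_one hne)
    have ht5 := Nat.le_of_dvd (by have := ht.two_le; omega) htm
    have hg4 : g * 2 ≤ g * (m + 2) := Nat.mul_le_mul_left _ (by omega)
    have htq : t ∣ q ^ (m + 2) - 1 := (Art.dvd_iff hp (m + 2)).2 (by rw [hto])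
    have htq2 : ¬ t ∣ q ^ 2 - 1 := fun h => by
      have h5 := (Art.dvd_iff hp 2).1 h
      rw [hto] at h5
      have h6 := Nat.le_of_dvd (by omega) h5
      have h7 : g * 4 ≤ g * (m + 2) := Nat.mul_le_mul_left _ (by omega)
      omega
    have htd : ¬ t ∣ Art.dd (.L (m + 2)) (q ^ 2) := fun h => htq2 (h.trans (Nat.gcd_dvd_right _ _))
    have h5 : t ∣ Art.dd (.L (m + 2)) (q ^ 2) * I * (q ^ 2 - 1) := by
      rw [key]; exact htq.mul_left _
    exact fin t ht (by omega) (by omega) (((ht.dvd_mul.1 ((ht.dvd_mul.1 h5).resolve_right htq2))).resolve_left htd)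

/-! ### the rows -/

section rows

variable {G : Type u} [Group G] [Finite G] {n p f s : ℕ} {K : Subgroup G} [K.Normal] {H : Subgroup (G ⧸ K)} [H.Normal]
  [IsSimpleGroup H] (hna : ¬ ∀ x y : H, x * y = y * x) (hout : H.index ∣ Nat.card (Cfsg.Out H))
include hna hout

/-- the data for the elimination -/
theorem elim_data (hp : p.Prime) (hs : s.Prime) (hsp : s ≠ p) (hnadj : NonAdj (G ⧸ K) s p)
    (hpK : ¬ p ∣ Nat.card K) :
    ∃ δ, p ^ δ ∣ Nat.card (Cfsg.Out H) ∧ Nat.card H * p ^ δ ≤ Nat.card G ∧ Nat.card H ∣ Nat.card G ∧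
      (Nat.card H).factorization p + δ = (Nat.card G).factorization p ∧
      (s ∣ Nat.card H → p ^ δ ∣ s ^ (Nat.card H).factorization s - 1) ∧
      Nat.card K * (H.index * Nat.card H) = Nat.card G := by
  have hK0 : Nat.card K ≠ 0 := Nat.card_pos.ne'
  have hH0 : Nat.card H ≠ 0 := Nat.card_pos.ne'
  have hI0 : H.index ≠ 0 := Subgroup.index_ne_zero_of_finite
  have hHG : Nat.card K * (H.index * Nat.card H) = Nat.card G := by
    rw [mul_comm H.index, Subgroup.card_mul_index, ← Subgroup.card_mul_index K, Subgroup.index_eq_card]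
  refine ⟨H.index.factorization p, (Nat.ordProj_dvd _ _).trans hout, ?_, ?_, ?_, ?_, hHG⟩
  · calc Nat.card H * p ^ H.index.factorization p ≤ Nat.card H * H.index :=
          Nat.mul_le_mul_left _ (Nat.le_of_dvd (Nat.pos_of_ne_zero hI0) (Nat.ordProj_dvd _ _))
      _ = H.index * Nat.card H := mul_comm _ _
      _ ≤ Nat.card K * (H.index * Nat.card H) := Nat.le_mul_of_pos_left _ (Nat.pos_of_ne_zero hK0)
      _ = Nat.card G := hHG
  · rw [← hHG]; exact (Dvd.intro_left _ rfl).trans (Dvd.intro_left _ rfl)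
  · rw [← hHG, Nat.factorization_mul hK0 (Nat.mul_ne_zero hI0 hH0), Finsupp.add_apply,
      Nat.factorization_eq_zero_of_not_dvd hpK, Nat.factorization_mul hI0 hH0, Finsupp.add_apply]
    omega
  · intro _
    exact pow_dvd_of_normal hp hs hsp.symm hnadj.symm H (Nat.ordProj_dvd _ _)

/-- **The tail for `PSL_n(q)`, `n ≥ 4`**: `G` itself is almost simple. -/
theorem rowL (hY : Art.Real (.L n) p f (Nat.card G)) (hn : 4 ≤ n) (hs : s.Prime) (hsp : s ≠ p)
    (hso : orderOf ((p ^ f : ℕ) : ZMod s) = n - 1) (hnadj : NonAdj (G ⧸ K) s p) (hsH : s ∣ Nat.card H)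
    (hK : Nat.card K = 1) : IsSimpleGroup G := by
  have hp := hY.hp
  have hf := hY.hf
  have hpK : ¬ p ∣ Nat.card K := by
    rw [hK]
    exact fun h => hp.one_lt.ne' (Nat.dvd_one.1 h)
  obtain ⟨δ, hδ, hle, hd, hv, hfs, hcard⟩ := elim_data hna hout hp hs hsp hnadj hpK
  rw [fac_self hY] at hv
  have hk := Cfsg.Agent.S0000.result (G := H)
  apply OrthRow.isSimple_of
  refine ⟨K, inferInstance, H, inferInstance, hna, ?_⟩
  have hfs' := hfs hsH
  by_cases h421 : p = 2 ∧ f * n < 6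
  · obtain ⟨rfl, h6⟩ := h421
    have h7 : f = 1 := by
      by_contra hcon
      have : 2 * 4 ≤ f * n := Nat.mul_le_mul (by omega) hn
      omega
    subst h7
    have h8 : n = 4 ∨ n = 5 := by omega
    rcases h8 with rfl | rfl
    · exact sL421 hk hna hd hs hY hso hδ hv hsH hfs'
    · exact sL521 hk hna hd hs hY hso hδ hv hsH hfs'
  by_cases h621 : p = 2 ∧ f * n = 6
  · obtain ⟨rfl, h6⟩ := h621
    have h7 : f = 1 := by
      by_contra hcon
      have : 2 * 4 ≤ f * n := Nat.mul_le_mul (by omega) hn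
      omega
    subst h7
    have h8 : n = 6 := by omega
    subst h8
    exact sL621 hk hna hd hs hY hso hδ hv hsH hfs'
  · have h4 : 4 ≤ f * n := hn.trans (Nat.le_mul_of_pos_left _ hf)
    obtain ⟨r, hr, hrp, hro⟩ := exists_ppd (p := p) (n := f * n) hp (by omega) h621
    have hrK : ¬ r ∣ Nat.card K := by
      rw [hK]
      exact fun h => hr.one_lt.ne' (Nat.dvd_one.1 h)
    rcases tail hna hY hr hro h4 (fun h => by
      show 6 ≤ f * n
      have : ¬ f * n < 6 := fun h' => h421 ⟨h, h'⟩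
      omega) hpK hrK hcard hout (elimL' hk hna hd hs hY hn hso hδ hle hv hsH hfs') with h | ⟨X, g, hE, hX, hI⟩
    · exact h
    · rcases hE with ⟨h1, h2, h3, h4, h5⟩ | ⟨-, h, -⟩ | ⟨m, h1, h2, h3, h4, h5⟩ | ⟨-, h, -⟩ | ⟨-, h, -⟩ | ⟨-, h, -⟩ |
        ⟨-, h, -⟩ | ⟨-, h, -⟩
      · exfalso
        apply h421
        have : n = 4 := by simpa using h2
        exact ⟨h3, by rw [h5, this]; norm_num⟩
      · exfalso
        have : n = 3 := by simpa using h
        omega
      · exfalso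
        have h6 : n = m := by simpa using h3
        subst h6
        rw [h2] at hX hI
        rw [h4] at hY
        exact DDL_false hn hX hY h5 (by rw [← hcard, hK, one_mul]) hI
      · exfalso
        have : n = 3 := by simpa using h
        omega
      · exact absurd h (by simp)
      · exfalso
        have : n = 2 := by simpa using h
        omega
      · exact absurd h (by simp)
      · exact absurd h (by simp)

/-- **The tail for `PSU_n(q)`, `n ≥ 4`.** -/
theorem rowU (hY : Art.Real (.U n) p f (Nat.card G)) (hn : 4 ≤ n) (h42 : ¬ (n = 4 ∧ p = 2 ∧ f = 1)) (hs : s.Prime)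
    (hsp : s ≠ p) (hso : orderOf (-((p ^ f : ℕ) : ZMod s)) = n - 1) (hnadj : NonAdj (G ⧸ K) s p)
    (hsH : s ∣ Nat.card H) (hpK : ¬ p ∣ Nat.card K)
    (hrK : ∀ r : ℕ, r.Prime → r ≠ p → orderOf (p : ZMod r) = f * Art.DM (.U n) → ¬ r ∣ Nat.card K) :
    IsSimpleGroup G := by
  have hp := hY.hp
  have hf := hY.hf
  obtain ⟨δ, hδ, hle, hd, hv, hfs, hcard⟩ := elim_data hna hout hp hs hsp hnadj hpK
  rw [fac_self hY] at hv
  have hk := Cfsg.Agent.S0000.result (G := H)
  apply OrthRow.isSimple_of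
  refine ⟨K, inferInstance, H, inferInstance, hna, ?_⟩
  have hfs' := hfs hsH
  have h6 := six_le (m := n) hf hn
  have hex : ¬ (p = 2 ∧ f * Art.DM (.U n) = 6) := by
    rintro ⟨h1, h2⟩
    rw [DM_U] at h2
    have h3 : f * oo n = 3 := by
      have : f * (2 * oo n) = 2 * (f * oo n) := by ring
      omega
    have h4 : 3 ≤ oo n := by unfold oo; split_ifs <;> omega
    have h5 : f = 1 := by
      by_contra hcon
      have : 2 * 3 ≤ f * oo n := Nat.mul_le_mul (by omega) h4
      omega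
    subst h5
    apply h42
    refine ⟨?_, h1, rfl⟩
    rw [one_mul] at h3
    unfold oo at h3
    split_ifs at h3 <;> omega
  obtain ⟨r, hr, hrp, hro⟩ := exists_ppd (p := p) (n := f * Art.DM (.U n)) hp (by omega) hex
  rcases tail hna hY hr hro (by omega) (fun _ => h6) hpK (hrK r hr hrp hro) hcard hout
      (elimU' hk hna hd hs hY hn hso h42 hδ hle hv hsH hfs') with h | ⟨X, g, hE, hX, hI⟩
  · exact h
  · exfalso
    rcases hE with ⟨-, h, -⟩ | ⟨-, h, -⟩ | ⟨_, -, -, h, -⟩ | ⟨-, h, -⟩ | ⟨-, h, -⟩ | ⟨-, h, -⟩ | ⟨-, h, -⟩ | ⟨-, h, -⟩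
    · exact absurd h (by simp)
    · exact absurd h (by simp)
    · exact absurd h (by simp)
    · exact absurd h (by simp)
    · exact absurd h (by simp)
    · exact absurd h (by simp)
    · have : n = 3 := by simpa using h
      omega
    · exact absurd h (by simp)

end rows

end Cfsg.Agent.H370.AAM
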