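import Mathlib
import Cfsg.Agent.H370.AAM.Tail
import Cfsg.Agent.H370.AAM.Orth

/-!
# S3677: the row `PSU_n(2)`, `n ≥ 5`, with two perfect primes (helper370)
-/

set_option autoImplicit false
set_option linter.style.haveILetI false

namespace Cfsg.Agent.H370.AAM

open Subgroup Cfsg Cfsg.Agent.OrdDiv Cfsg.Agent.H364 Cfsg.Agent.H902
open Cfsg.Agent.H364.ArithU Cfsg.Agent.H364.NuOrd Cfsg.Agent.H431.CS

universe u v

theorem order_of_iff {p t b : ℕ} (hp : p.Prime) (h : ∀ m, t ∣ p ^ m - 1 ↔ b ∣ m) : orderOf (p : ZMod t) = b := by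
  have key : ∀ m, orderOf (p : ZMod t) ∣ m ↔ b ∣ m := fun m => by
    rw [← Cfsg.Agent.Lib.Zsigmondy.dvd_pow_sub_one_iff hp.one_le]; exact h m
  exact Nat.dvd_antisymm ((key b).2 dvd_rfl) ((key _).1 dvd_rfl)

theorem check52 : ((cands [(2, 10), (3, 5), (5, 1), (11, 1)] 13685760).all fun g => ordN g == 13685760 ||
    (ordN g % 5 == 0 && (5 ^ vl 5 (ordN g) - 1) % 2 ^ (10 - vl 2 (ordN g)) != 0)) = true := by decide +kernel

/-- **The structure of a group with the order and two nonadjacent primes of `PSU_n(2)`.** -/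
theorem utwo_core {G : Type u} [Group G] [Finite G] {n : ℕ} (hn : 5 ≤ n) (hn6 : n ≠ 6) (hY : Art.Real (.U n) 2 1 (Nat.card G))
    (hE : ∀ t, t.Prime → t ≠ 2 → (orderOf (-((2 ^ 1 : ℕ) : ZMod t)) = n ∨ orderOf (-((2 ^ 1 : ℕ) : ZMod t)) = n - 1) →
      NoEdge G t 2) :
    ∃ (K : Subgroup G) (_ : K.Normal) (H : Subgroup (G ⧸ K)), IsSimpleGroup H ∧ (¬ ∀ x y : H, x * y = y * x) ∧
      Nat.card H = Nat.card G := by
  have hko : (kk n = n ∧ oo n = n - 1) ∨ (kk n = n - 1 ∧ oo n = n) := by
    unfold kk oo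
    split_ifs <;> omega
  have hkE : Even (kk n) := (dat n (by omega)).even
  have hoO : Odd (oo n) := (dat n (by omega)).odd
  have hk4 : 4 ≤ kk n := by omega
  have ho5 : 5 ≤ oo n := by
    obtain ⟨c, hc⟩ := hoO
    obtain ⟨d, hd⟩ := hkE
    omega
  obtain ⟨r, a, hr, hrp, hra, -, ha3, hro, ha⟩ := NuOrd.exists_prime (p := 2) (f := 1) (v := oo n) Nat.prime_two le_rfl
    (by omega) (by omega)
  obtain ⟨s, b, hs, hsp, hsb, -, hb3, hso, hb⟩ := NuOrd.exists_prime (p := 2) (f := 1) (v := kk n) Nat.prime_two le_rfl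
    (by omega) (by omega)
  have ha' : a = 1 * al (oo n) := by
    rcases ha with h | ⟨-, h, -⟩
    · exact h
    · omega
  have hb' : b = 1 * al (kk n) := by
    rcases hb with h | ⟨-, h, -⟩
    · exact h
    · omega
  have hDM : Art.DM (.U n) = al (oo n) := by rw [DM_U, al_odd hoO]
  have hro' : orderOf ((2 : ℕ) : ZMod r) = 1 * Art.DM (.U n) := by
    rw [order_of_iff Nat.prime_two hra, ha', hDM]
  have hso' : orderOf ((2 : ℕ) : ZMod s) = b := order_of_iff Nat.prime_two hsb
  have hEr : NoEdge G r 2 := by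
    refine hE r hr hrp ?_
    rcases hko with ⟨-, h⟩ | ⟨-, h⟩
    · exact Or.inr (hro.trans h)
    · exact Or.inl (hro.trans h)
  have hEs : NoEdge G s 2 := by
    refine hE s hs hsp ?_
    rcases hko with ⟨h, -⟩ | ⟨h, -⟩
    · exact Or.inl (hso.trans h)
    · exact Or.inr (hso.trans h)
  have hsG : s ∣ Nat.card G := by
    apply hY.dvd_of_dvd_num hs
    · intro h
      -- `s ∣ gcd n 3`
      have h1 : s ∣ 3 := Nat.dvd_trans h (Nat.gcd_dvd_right _ _)
      have h2 : s = 3 := (Nat.prime_dvd_prime_iff_eq hs Nat.prime_three).1 h1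
      have h3 : b ∣ 2 := (hsb 2).1 (by rw [h2]; norm_num)
      have := Nat.le_of_dvd (by norm_num) h3
      omega
    · show s ∣ ∏ i ∈ Finset.range (n - 1), (if Even i then (2 ^ 1) ^ (i + 2) - 1 else (2 ^ 1) ^ (i + 2) + 1)
      refine Dvd.dvd.trans ?_ (Finset.dvd_prod_of_mem _ (Finset.mem_range.2 (by omega : kk n - 2 < n - 1)))
      have he : Even (kk n - 2) := by
        obtain ⟨d, hd⟩ := hkE
        exact ⟨d - 1, by omega⟩
      rw [if_pos he, pow_one, Nat.sub_add_cancel (by omega), hsb, hb', one_mul]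
      rcases al_cases (kk n) with ⟨h, -⟩ | ⟨-, h⟩ | ⟨w, -, h, h'⟩
      · exact absurd h (Nat.not_odd_iff_even.2 hkE)
      · rw [h]
      · rw [h', h]; exact Dvd.intro_left _ rfl
  have hlcm : 1 * Art.NN (.U n) < Nat.lcm (1 * Art.DM (.U n)) b := by
    have h1 := lt_lcm (f := 1) hoO hkE (by
      rw [Nat.coprime_iff_gcd_eq_one, ← Nat.dvd_one]
      rcases hko with ⟨h, h'⟩ | ⟨h, h'⟩
      · have h3 := Nat.gcd_dvd_left (oo n) (kk n)
        have h4 := Nat.gcd_dvd_right (oo n) (kk n)
        have h5 := Nat.dvd_sub h4 h3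
        rwa [show kk n - oo n = 1 by omega] at h5
      · have h3 := Nat.gcd_dvd_left (oo n) (kk n)
        have h4 := Nat.gcd_dvd_right (oo n) (kk n)
        have h5 := Nat.dvd_sub h3 h4
        rwa [show oo n - kk n = 1 by omega] at h5) (by omega) (by omega)
    rw [hDM, hb']
    refine lt_of_lt_of_le ?_ h1
    have h2 : Art.NN (.U n) = n * (n - 1) / 2 := rfl
    have h3 : oo n * kk n = n * (n - 1) := by
      rcases hko with ⟨h, h'⟩ | ⟨h, h'⟩
      · rw [h, h', mul_comm]
      · rw [h, h']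
    rw [h2, h3, one_mul, one_mul]
    have : 0 < n * (n - 1) := Nat.mul_pos (by omega) (by omega)
    omega
  obtain ⟨K, hK, H, h1, h2, h3⟩ := main hY hr hro' (six_le le_rfl (by omega)) hs hso' (by omega) hsG hEr hEs hlcm
    (dom' hY (by simp) hr hrp (by simp) (by
      rintro ⟨h, -⟩
      have : n = 4 := by simpa using h
      omega))
    (dom' hY (by simp) hs hsp (by simp) (by
      rintro ⟨h, -⟩
      have : n = 4 := by simpa using h
      omega)) (by
      intro S _ _ _ hna δ hd hle hdv hv _ _ _ hfs hrs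
      have hk := Cfsg.Agent.S0000.result (G := S)
      rcases elimU hk hna hd hle hY (by omega) hv with h | h
      · exact Or.inl h
      -- `PSU_5(2)`
      have h56 : n = 5 := by
        rcases h with ⟨h, h', -⟩ | ⟨h, h', -⟩ | ⟨h, h', -⟩ | ⟨h, h', -⟩ | ⟨h, h', -⟩ | ⟨h, h', -⟩ | ⟨h, h', -⟩ <;> omega
      subst h56
      · right
        have hM := card_of (N := 13685760) hY (by decide +kernel)
        have hs5 : s = 5 := by
          have h4 : kk 5 = 4 := by decide
          have h5 : al 4 = 4 := al_four (by norm_num)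
          rw [h4, h5] at hb'
          have h6 : s ∣ 2 ^ 4 - 1 := (hsb 4).2 (by rw [hb'])
          have h7 : s ∣ 3 * 5 := h6
          rcases hs.dvd_mul.1 h7 with h8 | h8
          · exfalso
            have h9 : b ∣ 2 := (hsb 2).1 h8
            have := Nat.le_of_dvd (by norm_num) h9
            omega
          · exact (Nat.prime_dvd_prime_iff_eq hs Nat.prime_five).1 h8
        rw [hM] at hdv ⊢
        obtain ⟨g, hg, -, ho⟩ := exists_good table hk hna (l := [(2, 10), (3, 5), (5, 1), (11, 1)])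
          (by decide +kernel) hdv
        have hc := check52
        rw [List.all_eq_true] at hc
        have hc := hc g hg
        rw [← ho] at hc
        simp only [Bool.or_eq_true, Bool.and_eq_true, beq_iff_eq, bne_iff_ne, ne_eq] at hc
        rcases hc with hc | ⟨hc1, hc2⟩
        · exact hc
        exfalso
        have hS0 : Nat.card S ≠ 0 := Nat.card_pos.ne'
        have hlt : Nat.card S < 2 ^ 70 := (Nat.le_of_dvd (by norm_num) hdv).trans_lt (by norm_num)
        rw [vl_eq Nat.prime_two hS0 hlt, vl_eq Nat.prime_five hS0 hlt] at hc2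
        have h10 : 1 * Art.NN (.U 5) = 10 := rfl
        rw [h10] at hv
        have hδ' : 10 - (Nat.card S).factorization 2 = δ := by omega
        rw [hδ'] at hc2
        have h5 : s ∣ Nat.card S := by rw [hs5]; exact Nat.dvd_of_mod_eq_zero hc1
        have h6 := hfs h5
        rw [hs5] at h6
        exact hc2 (Nat.mod_eq_zero_of_dvd h6))
  refine ⟨K, hK, H, h1, h2, ?_⟩
  rcases h3 with h | ⟨X, g, h, -⟩
  · exact h
  · exfalso
    rcases h with ⟨-, h, -⟩ | ⟨-, h, -⟩ | ⟨_, -, -, h, -⟩ | ⟨-, h, -⟩ | ⟨-, h, -⟩ | ⟨-, h, -⟩ | ⟨-, h, -⟩ | ⟨-, h, -⟩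
    · exact absurd h (by simp)
    · exact absurd h (by simp)
    · exact absurd h (by simp)
    · exact absurd h (by simp)
    · exact absurd h (by simp)
    · exact absurd h (by simp)
    · have : n = 3 := by simpa using h
      omega
    · exact absurd h (by simp)

/-- **The row `PSU_n(2)`, `n ≥ 5`, `n ≠ 6`**, given the centralizer lattices of the two primitive primes. -/
theorem row_psu_two_of {G : Type u} [Group G] [Finite G] {F : Type v} [Field F] [Fintype F] {n : ℕ} (hn : 5 ≤ n)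
    (hn6 : n ≠ 6) (hF : Fintype.card F = 4)
    (hlat : ∀ t : ℕ, t.Prime → t ≠ 2 → (orderOf (-(2 : ZMod t)) = n ∨ orderOf (-(2 : ZMod t)) = n - 1) →
      LatW (PSU n F 2) 2 t)
    (h : Same G (PSU n F 2)) : IsSimpleGroup G := by
  have : Finite (PSU n F 2) := Quotient.finite _
  have hY : Art.Real (.U n) 2 1 (Nat.card G) := by
    rw [h.card]
    have h0 := PSUFour.psu_real_univ (F := F) (p := 2) (f := 1) (m := n) Nat.prime_two le_rfl (by rw [hF]; norm_num)
      (by omega)
    rwa [pow_one] at h0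
  apply OrthRow.isSimple_of
  refine utwo_core hn hn6 hY fun t ht ht2 ho => (hlat t ht ht2 ?_).noEdge ht Nat.prime_two ht2 h
  simpa using ho

end Cfsg.Agent.H370.AAM
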