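import Cfsg.Agent.H370.AAM.OrthRows
import Cfsg.Agent.H370.AAM.UTwo
import Cfsg.Agent.H783.CS.Minus
import Cfsg.Agent.H157.CS.Top
import Cfsg.Agent.H446.CS.PsuSub

/-!
# S3677: the rows `POmega^-_{2n}(q)` (`n ≥ 4`) and `PSU_n(2)` (`n ≥ 5`, `3 ∤ n`) (helper370)
-/

set_option autoImplicit false

namespace Cfsg.Agent.H370.AAM

open Cfsg Cfsg.Agent.H431.CS

universe u v

theorem row_minus {G : Type u} [Group G] [Finite G] {F : Type v} [Field F] [Fintype F] {n : ℕ} (hn : 4 ≤ n) {a b : F}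
    (hab : ∀ z₁ z₂ : F, z₁ ^ 2 + a * z₁ * z₂ + b * z₂ ^ 2 = 0 → z₁ = 0 ∧ z₂ = 0)
    (h : Same G (POmega F (quadFormMinus (n - 1) F a b))) : IsSimpleGroup G :=
  row_minus_of hn hab (fun p f hp hf hF t ht _ ho => by
    rcases ho with ho | ho
    · exact Cfsg.Agent.H783.CS.lat_minus_top hp hf hF hn hab ht ho
    · exact Cfsg.Agent.H783.CS.lat_minus_sub hp hf hF hn hab ht ho) h

theorem row_psu_two {G : Type u} [Group G] [Finite G] {F : Type v} [Field F] [Fintype F] {n : ℕ} (hn : 5 ≤ n)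
    (h3 : ¬ 3 ∣ n) (hF : Fintype.card F = 4) (h : Same G (PSU n F 2)) : IsSimpleGroup G := by
  refine row_psu_two_of hn (by rintro rfl; exact h3 (by norm_num)) hF (fun t ht ht2 ho => ?_) h
  rcases ho with ho | ho
  · exact (Cfsg.Agent.H157.CS.lat_psu_two hF (by omega) h3 ht ho).toLatW
  · have h1 := Cfsg.Agent.H446.CS.lat_psu_sub (F := F) (p := 2) (f := 1) (n := n) (r := t) Nat.prime_two le_rfl
      (by rw [hF]; norm_num) (by omega) ht (by rw [← ho]; norm_num)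
    simpa using h1.toLatW

end Cfsg.Agent.H370.AAM
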