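import Mathlib
import Cfsg.Agent.H370.AAM.Tail

/-!
# The tail for `PSL_7(2)` (helper370)
-/

set_option autoImplicit false

namespace Cfsg.Agent.H370.AAM

open Subgroup Cfsg Cfsg.Agent.OrdDiv Cfsg.Agent.H364 Cfsg.Agent.H902
open Cfsg.Agent.H364.ArithU Cfsg.Agent.H363.Frat Cfsg.Agent.H363.Master

universe u v

/-- **The tail for `PSL_7(2)`**, with the prime `127`. -/
theorem rowL72 {G : Type u} [Group G] [Finite G] {K : Subgroup G} [K.Normal] {H : Subgroup (G ⧸ K)} [H.Normal]
    [IsSimpleGroup H] (hna : ¬ ∀ x y : H, x * y = y * x) (hout : H.index ∣ Nat.card (Cfsg.Out H))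
    (hY : Art.Real (.L 7) 2 1 (Nat.card G)) (hnadj : NonAdj (G ⧸ K) 127 2) (hK : Nat.card K = 1) :
    IsSimpleGroup G := by
  have h127 : Nat.Prime 127 := by norm_num
  have hp := hY.hp
  have hpK : ¬ 2 ∣ Nat.card K := by
    rw [hK]; norm_num
  have hrK : ¬ 127 ∣ Nat.card K := by
    rw [hK]; norm_num
  obtain ⟨δ, hδ, hle, hd, hv, -, hcard⟩ := elim_data hna hout hp h127 (by norm_num) hnadj hpK
  rw [fac_self hY] at hv
  have hk := Cfsg.Agent.S0000.result (G := H)
  apply OrthRow.isSimple_of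
  refine ⟨K, inferInstance, H, inferInstance, hna, ?_⟩
  have hro : orderOf ((2 : ℕ) : ZMod 127) = 1 * Art.DM (.L 7) := by
    show orderOf ((2 : ℕ) : ZMod 127) = 1 * 7
    rw [one_mul, Nat.cast_ofNat]
    exact (orderOf_eq_iff (by norm_num)).2 ⟨by decide, by decide⟩
  have hlie : IsLieTypeChar 2 H ∨ Nat.card H = Nat.card G := by
    rcases elimL hk hna hδ hle hY (by norm_num) hv with h | h
    · exact Or.inl h
    · exfalso
      unfold exLU at h
      omega
  rcases tail hna hY h127 hro (by decide) (fun _ => by decide) hpK hrK hcard hout hlie with h | ⟨X, g, hE, hX, hI⟩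
  · exact h
  · exfalso
    rcases hE with ⟨-, h, -⟩ | ⟨-, h, -⟩ | ⟨m, h1, h2, h3, h4, h5⟩ | ⟨-, h, -⟩ | ⟨-, h, -⟩ | ⟨-, h, -⟩ | ⟨-, h, -⟩ |
      ⟨-, h, -⟩
    · exact absurd h (by simp)
    · exact absurd h (by simp)
    · omega
    · exact absurd h (by simp)
    · exact absurd h (by simp)
    · exact absurd h (by simp)
    · exact absurd h (by simp)
    · exact absurd h (by simp)

end Cfsg.Agent.H370.AAM
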