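import Mathlib
import Cfsg.Agent.H370.AAM.Tail

/-!
# From a simple section to the conclusion, `PSp_2n` / `Ω_{2n+1}` (`n ≥ 3`) and `PΩ⁺_{2n}` (helper370)
-/

set_option autoImplicit false
set_option linter.style.haveILetI false

namespace Cfsg.Agent.H370.AAM

open Subgroup Cfsg Cfsg.Agent.OrdDiv Cfsg.Agent.H364 Cfsg.Agent.H902
open Cfsg.Agent.H364.ArithU Cfsg.Agent.H363.Frat Cfsg.Agent.H363.Master
open Cfsg.Agent.H365.PPart Cfsg.Agent.H365.CubeF

universe u v

/-- the names of Lie type in characteristic `p` which occur -/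
def lieB' (p : ℕ) : Grp → Bool
  | .psl m q => Nat.ble 3 m && (q == p || q == p ^ 2)
  | g => lieB p g

theorem lieB'_spec {S : Type u} [Group S] {p : ℕ} (hp : p.Prime) {g : Grp} (hg : lieB' p g = true) (hr : OrdDiv.Real g S) :
    IsLieTypeChar p S := by
  by_cases h : ∃ m q, g = .psl m q
  · obtain ⟨m, q, rfl⟩ := h
    simp only [lieB', Bool.and_eq_true, Nat.ble_eq, Bool.or_eq_true, beq_iff_eq] at hg
    obtain ⟨F, _, _, hF, ⟨e⟩⟩ := hr
    exact Or.inl ⟨F, inferInstance, inferInstance, charP_of_dvd hp (by rw [hF]; exact dvd_of_or hg.2), m,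
      by omega, fun h => by omega, ⟨e⟩⟩
  · have h1 : lieB' p g = lieB p g := by
      cases g with
      | psl m q => exact absurd ⟨m, q, rfl⟩ h
      | _ => rfl
    rw [h1] at hg
    exact lieB_spec hp hg hr

/-- the check; `w = true`: the names of Lie type are allowed; `k`, `k'`: the allowed orders of `q` modulo the prime -/
def chkT (w : Bool) (q k k' : ℕ) (l : List (ℕ × ℕ)) (M p P : ℕ) : Bool :=
  l.all fun x => !(okB false q k x.1 || okB false q k' x.1) ||
    (cands l M).all fun g => ordN g == M || (w && lieB' p g) || bad p P x.1 (ordN g)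

theorem of_chkT {S : Type u} [Group S] [Finite S] [IsSimpleGroup S] (hk : IsKnownSimple' S)
    (hna : ¬ ∀ a b : S, a * b = b * a) {w : Bool} {q k k' : ℕ} {l : List (ℕ × ℕ)} {M p P s δ : ℕ}
    (hv : valid l M = true) (hM : M < 2 ^ 70) (hd : Nat.card S ∣ M) (hp : p.Prime) (hs : s.Prime)
    (hδ : p ^ δ ∣ Nat.card (Cfsg.Out S)) (hP : (Nat.card S).factorization p + δ = P) (hsS : s ∣ Nat.card S)
    (hsδ : p ^ δ ∣ s ^ (Nat.card S).factorization s - 1) (hok : okB false q k s = true ∨ okB false q k' s = true)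
    (hc : chkT w q k k' l M p P = true) : (w = true ∧ IsLieTypeChar p S) ∨ Nat.card S = M := by
  obtain ⟨j, hj, -⟩ := exists_pair hv hs le_rfl ((by rw [pow_one]; exact hsS : s ^ 1 ∣ Nat.card S).trans hd)
  obtain ⟨g, hg, hr, ho⟩ := exists_good table hk hna hv hd
  rw [chkT, List.all_eq_true] at hc
  have h1 := hc _ hj
  have hok' : (okB false q k s || okB false q k' s) = true := by simpa using hok
  simp only [hok', Bool.not_true, Bool.false_or, List.all_eq_true] at h1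
  have h2 := h1 g hg
  rw [← ho] at h2
  simp only [Bool.or_eq_true, Bool.and_eq_true, beq_iff_eq] at h2
  rcases h2 with (h2 | h2) | h2
  · exact Or.inr h2
  · exact Or.inl ⟨h2.1, lieB'_spec hp h2.2 hr⟩
  exfalso
  have hS0 : Nat.card S ≠ 0 := Nat.card_pos.ne'
  have hM0 : M ≠ 0 := (valid_pos hv).ne'
  have hlt : Nat.card S < 2 ^ 70 := (Nat.le_of_dvd (Nat.pos_of_ne_zero hM0) hd).trans_lt hM
  have hδ' : P - (Nat.card S).factorization p = δ := by omega
  rw [bad, vl_eq hs hS0 hlt, vl_eq hp hS0 hlt, hδ'] at h2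
  simp only [Bool.or_eq_true, bne_iff_ne, ne_eq, Nat.ble_eq] at h2
  rcases h2 with (h2 | h2) | h2
  · exact h2 (Nat.mod_eq_zero_of_dvd hsS)
  · exact h2 (Nat.mod_eq_zero_of_dvd hsδ)
  · obtain ⟨B, hB⟩ := Nat.ordProj_dvd (Nat.card S) p
    have hpv : 0 < p ^ (Nat.card S).factorization p := pow_pos hp.pos _
    have hdiv : Nat.card S / p ^ (Nat.card S).factorization p = B := Nat.div_eq_of_eq_mul_right hpv hB
    rw [hdiv] at h2
    have h3 := two_pow_out hk hna hp hδ (B := B) hB.le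
    have h4 : B < 2 ^ (Nat.log2 B + 1) := Nat.lt_log2_self
    have h5 : B ^ 3 < (2 ^ (Nat.log2 B + 1)) ^ 3 := Nat.pow_lt_pow_left h4 (by norm_num)
    rw [← pow_mul] at h5
    have h6 := (Nat.pow_lt_pow_iff_right (by norm_num : 1 < 2)).1 (h3.trans_lt h5)
    omega

section small

variable {S : Type u} [Group S] [Finite S] [IsSimpleGroup S] (hk : IsKnownSimple' S)
  (hna : ¬ ∀ a b : S, a * b = b * a) {M s δ : ℕ} (hd : Nat.card S ∣ M) (hs : s.Prime)
include hk hna hd hs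

theorem sC321 (hM : Art.Real (.C 3) 2 1 M)
    (ho : orderOf (((2 ^ 1 : ℕ)) : ZMod s) = 6 ∨ orderOf (((2 ^ 1 : ℕ)) : ZMod s) = 3)
    (hδ : 2 ^ δ ∣ Nat.card (Cfsg.Out S)) (hP : (Nat.card S).factorization 2 + δ = 1 * Art.NN (.C 3))
    (hsS : s ∣ Nat.card S) (hsδ : 2 ^ δ ∣ s ^ (Nat.card S).factorization s - 1) :
    Nat.card S = M := by
  obtain rfl : M = 1451520 := card_of hM (by decide +kernel)
  rcases of_chkT hk hna (w := false) (q := 2 ^ 1) (k := 6) (k' := 3)
    (l := [(2, 9), (3, 4), (5, 1), (7, 1)]) (P := 9)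
    (by decide +kernel) (by norm_num) hd hM.hp hs hδ hP hsS hsδ
    (ho.imp (okB_L (by norm_num) (by norm_num)) (okB_L (by norm_num) (by norm_num)))
    (by decide +kernel) with h | h
  · exact absurd h.1 (by decide)
  · exact h

theorem sC322 (hM : Art.Real (.C 3) 2 2 M)
    (ho : orderOf (((2 ^ 2 : ℕ)) : ZMod s) = 6 ∨ orderOf (((2 ^ 2 : ℕ)) : ZMod s) = 3)
    (hδ : 2 ^ δ ∣ Nat.card (Cfsg.Out S)) (hP : (Nat.card S).factorization 2 + δ = 2 * Art.NN (.C 3))
    (hsS : s ∣ Nat.card S) (hsδ : 2 ^ δ ∣ s ^ (Nat.card S).factorization s - 1) :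
    Nat.card S = M := by
  obtain rfl : M = 4106059776000 := card_of hM (by decide +kernel)
  rcases of_chkT hk hna (w := false) (q := 2 ^ 2) (k := 6) (k' := 3)
    (l := [(2, 18), (3, 4), (5, 3), (7, 1), (13, 1), (17, 1)]) (P := 18)
    (by decide +kernel) (by norm_num) hd hM.hp hs hδ hP hsS hsδ
    (ho.imp (okB_L (by norm_num) (by norm_num)) (okB_L (by norm_num) (by norm_num)))
    (by decide +kernel) with h | h
  · exact absurd h.1 (by decide)
  · exact h

theorem sC421 (hM : Art.Real (.C 4) 2 1 M)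
    (ho : orderOf (((2 ^ 1 : ℕ)) : ZMod s) = 8 ∨ orderOf (((2 ^ 1 : ℕ)) : ZMod s) = 8)
    (hδ : 2 ^ δ ∣ Nat.card (Cfsg.Out S)) (hP : (Nat.card S).factorization 2 + δ = 1 * Art.NN (.C 4))
    (hsS : s ∣ Nat.card S) (hsδ : 2 ^ δ ∣ s ^ (Nat.card S).factorization s - 1) :
    IsLieTypeChar 2 S ∨ Nat.card S = M := by
  obtain rfl : M = 47377612800 := card_of hM (by decide +kernel)
  rcases of_chkT hk hna (w := true) (q := 2 ^ 1) (k := 8) (k' := 8)
    (l := [(2, 16), (3, 5), (5, 2), (7, 1), (17, 1)]) (P := 16)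
    (by decide +kernel) (by norm_num) hd hM.hp hs hδ hP hsS hsδ
    (ho.imp (okB_L (by norm_num) (by norm_num)) (okB_L (by norm_num) (by norm_num)))
    (by decide +kernel) with h | h
  · exact Or.inl h.2
  · exact Or.inr h

theorem sC331 (hM : Art.Real (.C 3) 3 1 M)
    (ho : orderOf (((3 ^ 1 : ℕ)) : ZMod s) = 6 ∨ orderOf (((3 ^ 1 : ℕ)) : ZMod s) = 3)
    (hδ : 3 ^ δ ∣ Nat.card (Cfsg.Out S)) (hP : (Nat.card S).factorization 3 + δ = 1 * Art.NN (.C 3))
    (hsS : s ∣ Nat.card S) (hsδ : 3 ^ δ ∣ s ^ (Nat.card S).factorization s - 1) :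
    Nat.card S = M := by
  obtain rfl : M = 4585351680 := card_of hM (by decide +kernel)
  rcases of_chkT hk hna (w := false) (q := 3 ^ 1) (k := 6) (k' := 3)
    (l := [(2, 9), (3, 9), (5, 1), (7, 1), (13, 1)]) (P := 9)
    (by decide +kernel) (by norm_num) hd hM.hp hs hδ hP hsS hsδ
    (ho.imp (okB_L (by norm_num) (by norm_num)) (okB_L (by norm_num) (by norm_num)))
    (by decide +kernel) with h | h
  · exact absurd h.1 (by decide)
  · exact h

theorem sD421 (hM : Art.Real (.D 4) 2 1 M)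
    (ho : orderOf (((2 ^ 1 : ℕ)) : ZMod s) = 6 ∨ orderOf (((2 ^ 1 : ℕ)) : ZMod s) = 3)
    (hδ : 2 ^ δ ∣ Nat.card (Cfsg.Out S)) (hP : (Nat.card S).factorization 2 + δ = 1 * Art.NN (.D 4))
    (hsS : s ∣ Nat.card S) (hsδ : 2 ^ δ ∣ s ^ (Nat.card S).factorization s - 1) :
    Nat.card S = M := by
  obtain rfl : M = 174182400 := card_of hM (by decide +kernel)
  rcases of_chkT hk hna (w := false) (q := 2 ^ 1) (k := 6) (k' := 3)
    (l := [(2, 12), (3, 5), (5, 2), (7, 1)]) (P := 12)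
    (by decide +kernel) (by norm_num) hd hM.hp hs hδ hP hsS hsδ
    (ho.imp (okB_L (by norm_num) (by norm_num)) (okB_L (by norm_num) (by norm_num)))
    (by decide +kernel) with h | h
  · exact absurd h.1 (by decide)
  · exact h

end small

section rows

variable {G : Type u} [Group G] [Finite G] {n p f s : ℕ} {K : Subgroup G} [K.Normal] {H : Subgroup (G ⧸ K)} [H.Normal]
  [IsSimpleGroup H] (hna : ¬ ∀ x y : H, x * y = y * x) (hout : H.index ∣ Nat.card (Cfsg.Out H))
include hna hout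

/-- **The tail for `PSp_2n(q)` and `Ω_{2n+1}(q)`, `n ≥ 3`.** -/
theorem rowC (hY : Art.Real (.C n) p f (Nat.card G)) (hn : 3 ≤ n) (hs : s.Prime) (hsp : s ≠ p)
    (hso : orderOf ((p ^ f : ℕ) : ZMod s) = 2 * n ∨ (Odd n ∧ orderOf ((p ^ f : ℕ) : ZMod s) = n))
    (hnadj : NonAdj (G ⧸ K) s p) (hsH : s ∣ Nat.card H) (hpK : ¬ p ∣ Nat.card K)
    (hrK : ∀ r : ℕ, r.Prime → r ≠ p → orderOf (p : ZMod r) = f * (2 * n) → ¬ r ∣ Nat.card K) :
    IsSimpleGroup G := by
  have hp := hY.hp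
  have hf := hY.hf
  obtain ⟨δ, hδ, hle, hd, hv, hfs, hcard⟩ := elim_data hna hout hp hs hsp hnadj hpK
  rw [fac_self hY] at hv
  have hk := Cfsg.Agent.S0000.result (G := H)
  apply OrthRow.isSimple_of
  refine ⟨K, inferInstance, H, inferInstance, hna, ?_⟩
  have hfs' := hfs hsH
  have key : IsLieTypeChar p H ∨ Nat.card H = Nat.card G ∨ (p = 2 ∧ f * (2 * n) = 6) := by
    rcases elimC hk hna hδ hle hY hn hv with h | ⟨rfl, rfl, h⟩ | ⟨rfl, rfl, rfl⟩ | ⟨rfl, rfl, rfl⟩
    · exact Or.inl h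
    · interval_cases f
      · right; left
        exact sC321 hk hna hd hs hY (hso.imp id And.right) hδ hv hsH hfs'
      · right; left
        exact sC322 hk hna hd hs hY (hso.imp id And.right) hδ hv hsH hfs'
    · rcases sC421 hk hna hd hs hY (hso.imp id fun h => absurd h.1 (by decide)) hδ hv hsH hfs' with h | h
      · exact Or.inl h
      · exact Or.inr (Or.inl h)
    · right; left
      exact sC331 hk hna hd hs hY (hso.imp id And.right) hδ hv hsH hfs'
  by_cases hex : p = 2 ∧ f * (2 * n) = 6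
  · obtain ⟨rfl, h6⟩ := hex
    have h7 : f = 1 := by
      by_contra hcon
      have : 2 * (2 * 3) ≤ f * (2 * n) := Nat.mul_le_mul (by omega) (by omega)
      omega
    subst h7
    have h8 : n = 3 := by omega
    subst h8
    exact sC321 hk hna hd hs hY (hso.imp id And.right) hδ hv hsH hfs'
  have h6 : 6 ≤ f * (2 * n) := (by omega : 6 ≤ 2 * n).trans (Nat.le_mul_of_pos_left _ hf)
  obtain ⟨r, hr, hrp, hro⟩ := exists_ppd (p := p) (n := f * (2 * n)) hp (by omega) hex
  have hlie : IsLieTypeChar p H ∨ Nat.card H = Nat.card G := by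
    rcases key with h | h | h
    · exact Or.inl h
    · exact Or.inr h
    · exact absurd h hex
  rcases tail hna hY hr hro (by show 4 ≤ f * (2 * n); omega) (fun _ => h6) hpK (hrK r hr hrp hro) hcard hout
      hlie with h | ⟨X, g, hE, hX, hI⟩
  · exact h
  · exfalso
    rcases hE with ⟨-, h, -⟩ | ⟨-, h, -⟩ | ⟨_, -, -, h, -⟩ | ⟨-, h, -⟩ | ⟨-, h, -⟩ | ⟨-, h, -⟩ | ⟨-, h, -⟩ | ⟨-, h, -⟩
    · exact absurd h (by simp)
    · exact absurd h (by simp)
    · exact absurd h (by simp)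
    · exact absurd h (by simp)
    · have : n = 2 := by simpa using h
      omega
    · exact absurd h (by simp)
    · exact absurd h (by simp)
    · exact absurd h (by simp)

/-- **The tail for `PΩ⁺_{2n}(q)`, `n ≥ 4`.** -/
theorem rowD (hY : Art.Real (.D n) p f (Nat.card G)) (hs : s.Prime) (hsp : s ≠ p)
    (hso : orderOf ((p ^ f : ℕ) : ZMod s) = 2 * (n - 1) ∨ orderOf ((p ^ f : ℕ) : ZMod s) = n - 1)
    (hnadj : NonAdj (G ⧸ K) s p) (hsH : s ∣ Nat.card H) (hpK : ¬ p ∣ Nat.card K)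
    (hrK : ∀ r : ℕ, r.Prime → r ≠ p → orderOf (p : ZMod r) = f * (2 * (n - 1)) → ¬ r ∣ Nat.card K) :
    IsSimpleGroup G := by
  have hn : 4 ≤ n := hY.ok
  have hp := hY.hp
  have hf := hY.hf
  obtain ⟨δ, hδ, hle, hd, hv, hfs, hcard⟩ := elim_data hna hout hp hs hsp hnadj hpK
  rw [fac_self hY] at hv
  have hk := Cfsg.Agent.S0000.result (G := H)
  apply OrthRow.isSimple_of
  refine ⟨K, inferInstance, H, inferInstance, hna, ?_⟩
  have hfs' := hfs hsH
  by_cases hex : p = 2 ∧ f * (2 * (n - 1)) = 6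
  · obtain ⟨rfl, h6⟩ := hex
    have h7 : f = 1 := by
      by_contra hcon
      have : 2 * (2 * 3) ≤ f * (2 * (n - 1)) := Nat.mul_le_mul (by omega) (by omega)
      omega
    subst h7
    have h8 : n = 4 := by omega
    subst h8
    exact sD421 hk hna hd hs hY hso hδ hv hsH hfs'
  have h6 : 6 ≤ f * (2 * (n - 1)) := (by omega : 6 ≤ 2 * (n - 1)).trans (Nat.le_mul_of_pos_left _ hf)
  obtain ⟨r, hr, hrp, hro⟩ := exists_ppd (p := p) (n := f * (2 * (n - 1))) hp (by omega) hex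
  have hlie : IsLieTypeChar p H ∨ Nat.card H = Nat.card G := by
    rcases elimD hk hna hδ hle hY hv with h | ⟨rfl, rfl, rfl⟩
    · exact Or.inl h
    · exact absurd ⟨rfl, rfl⟩ hex
  rcases tail hna hY hr hro (by show 4 ≤ f * (2 * (n - 1)); omega) (fun _ => h6) hpK (hrK r hr hrp hro) hcard hout
      hlie with h | ⟨X, g, hE, hX, hI⟩
  · exact h
  · exfalso
    rcases hE with ⟨-, h, -⟩ | ⟨-, h, -⟩ | ⟨_, -, -, h, -⟩ | ⟨-, h, -⟩ | ⟨-, h, -⟩ | ⟨-, h, -⟩ | ⟨-, h, -⟩ | ⟨-, h, -⟩ <;>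
      exact absurd h (by simp)

end rows

end Cfsg.Agent.H370.AAM
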