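import Mathlib
import Cfsg.Agent.H370.AAM.Orth
import Cfsg.Agent.H431.CS.Defs

/-!
# S3677: the rows `PΩ⁻(2n, q)` and `PΩ⁺(2n, q)`, `n` odd (helper370)
-/

set_option autoImplicit false
set_option linter.style.haveILetI false

namespace Cfsg.Agent.H370.AAM

open Subgroup Cfsg Cfsg.Agent.OrdDiv Cfsg.Agent.H364 Module
open Cfsg.Agent.H431.CS

universe u v

/-- an isolated prime of `S` is an isolated prime of every group with the same centralizer orders -/
theorem isolated_noEdge {S : Type v} [Group S] [Finite S] {G : Type u} [Group G] [Finite G] (hG : Same G S) {t : ℕ}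
    (ht : t.Prime) (hiso : ∀ s : ℕ, s.Prime → s ≠ t → NoEdge S t s) {s0 : ℕ} (hs0 : s0.Prime) (hs0t : s0 ≠ t)
    (hs0S : s0 ∣ Nat.card S) {s : ℕ} (hs : s.Prime) (hst : s ≠ t) : NoEdge G t s := by
  intro x hx
  have hFt := Fact.mk ht
  have hFs := Fact.mk hs
  have hFs0 := Fact.mk hs0
  -- the cases for a centralizer order of `S` divisible by `t` and another prime
  have key : ∀ z : S, t ∣ Nat.card (centralizer ({z} : Set S)) → ∀ l : ℕ, l.Prime → l ≠ t →
      l ∣ Nat.card (centralizer ({z} : Set S)) → z = 1 := by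
    intro z htz l hl hlt hlz
    by_contra hz
    have hFl := Fact.mk hl
    have h1 : orderOf z ≠ 1 := fun h => hz (orderOf_eq_one_iff.1 h)
    obtain ⟨m, hm, hmz⟩ := Nat.exists_prime_and_dvd h1
    by_cases hmt : m = t
    · subst hmt
      obtain ⟨w, hw⟩ := exists_prime_orderOf_dvd_card' l hlz
      have hw' : orderOf (w : S) = l := by rw [← hw]; exact Subgroup.orderOf_coe w
      exact (hiso l hl hlt).false_of_dvd ht hl hlt.symm (mem_cent.1 w.2).symm hmz (hw' ▸ dvd_rfl)
    · obtain ⟨w, hw⟩ := exists_prime_orderOf_dvd_card' t htz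
      have hw' : orderOf (w : S) = t := by rw [← hw]; exact Subgroup.orderOf_coe w
      exact (hiso m hm hmt).false_of_dvd ht hm (Ne.symm hmt) (mem_cent.1 w.2) (hw' ▸ dvd_rfl) hmz
  obtain ⟨y, hy⟩ : ∃ y : G, y = x ^ s := ⟨_, rfl⟩
  have hyo : orderOf y = t := by
    rw [hy, orderOf_pow, hx, Nat.gcd_eq_right (dvd_mul_left s t)]
    exact Nat.mul_div_cancel _ hs.pos
  have hxy : Commute x y := by rw [hy]; exact Commute.self_pow x s
  have htd : t ∣ Nat.card (centralizer ({y} : Set G)) := dvd_cent hxy (by rw [hx]; exact dvd_mul_right _ _)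
  have hsd : s ∣ Nat.card (centralizer ({y} : Set G)) := dvd_cent hxy (by rw [hx]; exact dvd_mul_left _ _)
  obtain ⟨z, hz⟩ := hG.mem y
  have hz' : Nat.card (centralizer ({z} : Set S)) = Nat.card (centralizer ({y} : Set G)) := hz
  have hz1 : z = 1 := key z (hz' ▸ htd) s hs hst (hz' ▸ hsd)
  subst hz1
  have hcS : Nat.card (centralizer ({(1 : S)} : Set S)) = Nat.card S := by
    have : centralizer ({(1 : S)} : Set S) = ⊤ := by
      rw [eq_top_iff]; intro w _; exact mem_cent.2 (Commute.one_right w)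
    rw [this, Subgroup.card_top]
  -- `y` is central
  have hcen : centralizer ({y} : Set G) = ⊤ := by
    apply Subgroup.eq_top_of_card_eq
    rw [← hz', hcS, hG.card]
  obtain ⟨w, hw⟩ := exists_prime_orderOf_dvd_card' s0 hs0S
  obtain ⟨g, hg⟩ := hG.exists_of_mem (mem_co w)
  have hty : t ∣ Nat.card (centralizer ({g} : Set G)) := by
    have h1 : Commute y g := (mem_cent.1 (hcen ▸ Subgroup.mem_top g)).symm
    exact dvd_cent h1 (hyo ▸ dvd_rfl)
  rw [hg] at hty
  have hw1 : w = 1 := key w hty s0 hs0 hs0t (dvd_cent (Commute.refl w) (hw ▸ dvd_rfl))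
  rw [hw1, orderOf_one] at hw
  exact hs0.one_lt.ne hw

/-- **The structure of a group of order `|PΩ⁻(8, 2)|` with the isolated prime 17.** -/
theorem eight_core {G : Type u} [Group G] [Finite G] (hG : Nat.card G = 197406720)
    (hEs' : ∀ s : ℕ, s.Prime → s ≠ 17 → NoEdge G 17 s) :
    ∃ (K : Subgroup G) (_ : K.Normal) (H : Subgroup (G ⧸ K)), IsSimpleGroup H ∧ (¬ ∀ x y : H, x * y = y * x) ∧
      Nat.card H = Nat.card G := by
  have h17 : Nat.Prime 17 := by norm_num
  have hF17 : Fact (Nat.Prime 17) := ⟨h17⟩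
  have h17G : 17 ∣ Nat.card G := by rw [hG]; norm_num
  have hEs : ∀ s : ℕ, s.Prime → ¬ s ∣ 17 → NoEdge G 17 s := fun s hs h => hEs' s hs (fun h' => h (by rw [h']))
  have hprimes : ∀ s : ℕ, s.Prime → s ∣ 197406720 → s = 2 ∨ s = 3 ∨ s = 5 ∨ s = 7 ∨ s = 17 := by
    intro s hs h
    have h1 : s ∣ 2 ^ 12 * 3 ^ 4 * 5 * 7 * 17 := h
    rcases hs.dvd_mul.1 h1 with h2 | h2
    · rcases hs.dvd_mul.1 h2 with h3 | h3
      · rcases hs.dvd_mul.1 h3 with h4 | h4
        · rcases hs.dvd_mul.1 h4 with h5 | h5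
          · exact Or.inl ((Nat.prime_dvd_prime_iff_eq hs Nat.prime_two).1 (hs.dvd_of_dvd_pow h5))
          · exact Or.inr (Or.inl ((Nat.prime_dvd_prime_iff_eq hs Nat.prime_three).1 (hs.dvd_of_dvd_pow h5)))
        · exact Or.inr (Or.inr (Or.inl ((Nat.prime_dvd_prime_iff_eq hs Nat.prime_five).1 h4)))
      · exact Or.inr (Or.inr (Or.inr (Or.inl ((Nat.prime_dvd_prime_iff_eq hs (by norm_num)).1 h3))))
    · exact Or.inr (Or.inr (Or.inr (Or.inr ((Nat.prime_dvd_prime_iff_eq hs h17).1 h2))))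
  obtain ⟨t, ht⟩ := exists_prime_orderOf_dvd_card' 17 h17G
  have hIso : Isol G (zpowers t) 17 := by
    refine ⟨inferInstance, by rw [Nat.card_zpowers, ht], by rw [hG]; norm_num, ?_⟩
    intro r s hr hs hr5 hs5
    have : r = 17 := (Nat.prime_dvd_prime_iff_eq hr h17).1 hr5
    subst this
    exact hEs s hs hs5
  obtain ⟨K, hKn, n, hK17, hKt, hn, hcases⟩ := hIso.struct (by norm_num) (by norm_num)
  obtain ⟨hn1, hn2⟩ := hn 17 h17 dvd_rfl
  have hn4 : n = 4 := by
    have h1 : n ≤ 16 := Nat.le_of_dvd (by norm_num) hn1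
    rw [hG] at hn2
    interval_cases n <;> revert hn1 hn2 <;> decide
  subst hn4
  have hKG : Nat.card K * (Nat.card (G ⧸ K)) = 197406720 := by
    rw [← hG, ← Subgroup.card_mul_index K, Subgroup.index_eq_card]
  have hKd : Nat.card K ∣ 197406720 := Dvd.intro _ hKG
  have h17K : ¬ 17 ∣ Nat.card K := fun h => by
    have := Nat.dvd_gcd h (dvd_refl 17)
    rw [hK17] at this
    norm_num at this
  have hK2 : ∀ s : ℕ, s.Prime → s ∣ Nat.card K → s = 2 := by
    intro s hs h
    have hpos : 0 < (Nat.card K).factorization s := hs.factorization_pos_of_dvd Nat.card_pos.ne' h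
    have hle := (Nat.factorization_le_iff_dvd Nat.card_pos.ne' (by norm_num)).2 hKd s
    have h1 := hKt s hs
    rcases hprimes s hs (h.trans hKd) with rfl | rfl | rfl | rfl | rfl
    · rfl
    · exfalso
      have e : (197406720 : ℕ).factorization 3 = 4 :=
        PSUFour.fac_of Nat.prime_three (by norm_num) (by norm_num) (by norm_num)
      rw [e] at hle
      interval_cases h5 : (Nat.card K).factorization 3 <;> norm_num at h1
    · exfalso
      have e : (197406720 : ℕ).factorization 5 = 1 :=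
        PSUFour.fac_of Nat.prime_five (by norm_num) (by norm_num) (by norm_num)
      rw [e] at hle
      interval_cases h5 : (Nat.card K).factorization 5 <;> norm_num at h1
    · exfalso
      have e : (197406720 : ℕ).factorization 7 = 1 :=
        PSUFour.fac_of (by norm_num) (by norm_num) (by norm_num) (by norm_num)
      rw [e] at hle
      interval_cases h5 : (Nat.card K).factorization 7 <;> norm_num at h1
    · exact absurd h h17K
  obtain ⟨c, hc⟩ : ∃ c, Nat.card K = 2 ^ c := by
    refine ⟨(Nat.card K).factorization 2, ?_⟩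
    conv_lhs => rw [← Nat.prod_factorization_pow_eq_self (Nat.card_pos (α := K)).ne']
    rw [Finsupp.prod_eq_single 2]
    · intro s hs hs2
      exfalso
      exact hs2 (hK2 s (Nat.prime_of_mem_primeFactors (Finsupp.mem_support_iff.2 hs |> fun h => by simpa using h))
        (Nat.dvd_of_mem_primeFactors (by simpa using Finsupp.mem_support_iff.2 hs)))
    · intro _; rfl
  rcases hcases with h | ⟨N, hNn, hNs, hNna, hNc, h17N, n', hn', hnn⟩
  · exfalso
    rw [hG, hc] at h
    have h3 : 3 ∣ 2 ^ c := by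
      have h4 : 2 ^ c = 2903040 := by omega
      rw [h4]; norm_num
    have := (Nat.prime_dvd_prime_iff_eq Nat.prime_three Nat.prime_two).1 (Nat.prime_three.dvd_of_dvd_pow h3)
    omega
  · have hN : Nat.card N * N.index = Nat.card (G ⧸ K) := Subgroup.card_mul_index N
    have hNd : Nat.card N ∣ 197406720 := by
      rw [← hKG, ← hN]
      exact (Dvd.intro _ rfl).trans (Dvd.intro_left _ rfl)
    refine ⟨K, hKn, N, hNs, hNna, ?_⟩
    obtain ⟨g, hg, -, hord⟩ := exists_good table (Cfsg.Agent.S0000.result (G := N)) hNna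
      (l := [(2, 12), (3, 4), (5, 1), (7, 1), (17, 1)]) (by decide +kernel) hNd
    have hck := MinusEight.check
    rw [List.all_eq_true] at hck
    have h1 := hck g hg
    rw [← hord] at h1
    simp only [Bool.or_eq_true, bne_iff_ne, beq_iff_eq, ne_eq] at h1
    rcases h1 with h1 | h1
    · exfalso
      apply h1
      apply Nat.mod_eq_zero_of_dvd
      have hidx : N.index ∣ 2 ^ 2 := Dvd.intro_left _ hnn
      have h2 : 48195 ∣ Nat.card K * (Nat.card N * N.index) := by
        rw [hN, hKG]; norm_num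
      have h3 : Nat.Coprime 48195 (2 ^ c) := Nat.Coprime.pow_right _ (by norm_num)
      rw [hc] at h2
      have h4 := h3.dvd_of_dvd_mul_left h2
      have h5 : Nat.Coprime 48195 N.index := Nat.Coprime.coprime_dvd_right hidx (by norm_num)
      exact h5.dvd_of_dvd_mul_right h4
    · rw [h1, hG]

variable {F : Type v} [Field F] [Fintype F]

/-- **The row `PΩ⁻(2n, q)`**, given the centralizer lattices of the two primitive primes. -/
theorem row_minus_of {G : Type u} [Group G] [Finite G] {n : ℕ} (hn : 4 ≤ n) {a b : F}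
    (hab : ∀ z₁ z₂ : F, z₁ ^ 2 + a * z₁ * z₂ + b * z₂ ^ 2 = 0 → z₁ = 0 ∧ z₂ = 0)
    (hlat : ∀ p f : ℕ, p.Prime → 1 ≤ f → Fintype.card F = p ^ f → ∀ t : ℕ, t.Prime → t ≠ p →
      (orderOf ((p ^ f : ℕ) : ZMod t) = 2 * n ∨ orderOf ((p ^ f : ℕ) : ZMod t) = 2 * (n - 1)) →
      LatW (POmega F (quadFormMinus (n - 1) F a b)) p t)
    (h : Same G (POmega F (quadFormMinus (n - 1) F a b))) : IsSimpleGroup G := by
  have : Finite (POmega F (quadFormMinus (n - 1) F a b)) := Quotient.finite _
  obtain ⟨p, f, hp, hf, hF⟩ := (isPrimePow_nat_iff _).1 (Fintype.isPrimePow_card_of_field (α := F))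
  have hY : H902.Art.Real (.DD n) p f (Nat.card G) := by
    rw [h.card]; exact OrthRow.ominus_real hp hf hF.symm hn hab
  apply OrthRow.isSimple_of
  by_cases h42 : n = 4 ∧ p = 2 ∧ f = 1
  · obtain ⟨rfl, rfl, rfl⟩ := h42
    have hF2 : Fintype.card F = 2 := by rw [← hF, pow_one]
    have hG : Nat.card G = 197406720 := by
      have h1 := hY.eq
      rw [show (2 ^ 1) ^ H902.Art.NN (.DD 4) * H902.Art.num (.DD 4) (2 ^ 1) = H902.Art.dd (.DD 4) (2 ^ 1) * 197406720 by
        decide +kernel] at h1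
      exact Nat.eq_of_mul_eq_mul_left (Nat.pos_of_ne_zero hY.dd_ne) h1
    refine eight_core hG fun s hs hs17 => ?_
    refine isolated_noEdge h (by norm_num : (17 : ℕ).Prime) (fun l hl hl17 => ?_) Nat.prime_two (by norm_num)
      (by rw [← h.card, hG]; norm_num) hs hs17
    intro x hx
    have h1 : l ∣ 197406720 := by
      rw [← hG, h.card]
      exact (Dvd.intro_left _ rfl).trans (hx ▸ orderOf_dvd_natCard x)
    have h2 : l ∣ 2 ^ 12 * 3 ^ 4 * 5 * 7 * 17 := h1
    have h3 : l = 2 ∨ l = 3 ∨ l = 5 ∨ l = 7 := by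
      rcases hl.dvd_mul.1 h2 with h2 | h2
      · rcases hl.dvd_mul.1 h2 with h3 | h3
        · rcases hl.dvd_mul.1 h3 with h4 | h4
          · rcases hl.dvd_mul.1 h4 with h5 | h5
            · exact Or.inl ((Nat.prime_dvd_prime_iff_eq hl Nat.prime_two).1 (hl.dvd_of_dvd_pow h5))
            · exact Or.inr (Or.inl ((Nat.prime_dvd_prime_iff_eq hl Nat.prime_three).1 (hl.dvd_of_dvd_pow h5)))
          · exact Or.inr (Or.inr (Or.inl ((Nat.prime_dvd_prime_iff_eq hl Nat.prime_five).1 h4)))
        · exact Or.inr (Or.inr (Or.inr ((Nat.prime_dvd_prime_iff_eq hl (by norm_num)).1 h3)))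
      · exact absurd ((Nat.prime_dvd_prime_iff_eq hl (by norm_num)).1 h2) hl17
    exact MinusEight.noEdge hF2 hab h3 x hx
  · exact minus_core hY h42 fun t ht htp ho => (hlat p f hp hf hF.symm t ht htp ho).noEdge ht hp htp h

/-- **The row `PΩ⁺(2n, q)`, `n` odd**, given the centralizer lattices of the two primitive primes. -/
theorem row_plus_odd_of {G : Type u} [Group G] [Finite G] {n : ℕ} (hn : 5 ≤ n) (hodd : Odd n)
    (hlat : ∀ p f : ℕ, p.Prime → 1 ≤ f → Fintype.card F = p ^ f → ∀ t : ℕ, t.Prime → t ≠ p →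
      (orderOf ((p ^ f : ℕ) : ZMod t) = n ∨ orderOf ((p ^ f : ℕ) : ZMod t) = 2 * (n - 1)) →
      LatW (POmega F (quadFormPlus n F)) p t)
    (h : Same G (POmega F (quadFormPlus n F))) : IsSimpleGroup G := by
  have : Finite (POmega F (quadFormPlus n F)) := Quotient.finite _
  obtain ⟨p, f, hp, hf, hF⟩ := (isPrimePow_nat_iff _).1 (Fintype.isPrimePow_card_of_field (α := F))
  have hY : H902.Art.Real (.D n) p f (Nat.card G) := by
    rw [h.card]; exact OrthRow.oplus_real hp hf hF.symm (by omega)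
  apply OrthRow.isSimple_of
  exact plus_core hY hn hodd fun t ht htp ho => (hlat p f hp hf hF.symm t ht htp ho).noEdge ht hp htp h

end Cfsg.Agent.H370.AAM
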