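import Cfsg.Agent.H370.AAM.OrthRows
import Cfsg.Agent.H237.PL.Odd
import Cfsg.Agent.H286.CS.PSub

/-!
# S3677: the row `POmega^+_{2n}(q)`, `n ≥ 5` odd (helper370)
-/

set_option autoImplicit false

namespace Cfsg.Agent.H370.AAM

open Cfsg Cfsg.Agent.H431.CS

universe u v

theorem row_plus_odd {G : Type u} [Group G] [Finite G] {F : Type v} [Field F] [Fintype F] {n : ℕ} (hn : 5 ≤ n)
    (hodd : Odd n) (h : Same G (POmega F (quadFormPlus n F))) : IsSimpleGroup G :=
  row_plus_odd_of hn hodd (fun p f hp hf hF t ht _ ho => by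
    rcases ho with ho | ho
    · exact Cfsg.Agent.H237.PL.lat_plus_odd hp hf hF hn hodd ht ho
    · exact (Cfsg.Agent.H286.CS.lat_plus_sub hp hf hF (by omega) ht ho (Or.inr (Or.inl hodd))).toLatW) h

end Cfsg.Agent.H370.AAM
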